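import Cfsg.Agent.Aschbacher.Subfield
import Cfsg.Agent.Aschbacher.Forms

/-!
Absolutely irreducible groups are determined by their traces: traces in a subfield give realisability
over it, traces compatible with inversion give an invariant form.
-/

set_option autoImplicit false

namespace Cfsg.Agent.Linear.Mitchell

open scoped MatrixGroups Matrix
open Cfsg.Geo Cfsg.Agent.Aschbacher

variable {ι : Type} [Fintype ι] [DecidableEq ι] {F : Type*} [Field F] [Finite F] [Nonempty ι]
  {P : Subgroup (GL ι F)}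

omit [Finite F] [Nonempty ι] in
theorem eq_zero_of_forall_trace {X : Matrix ι ι F}
    (h : ∀ Y : Matrix ι ι F, (X * Y).trace = 0) : X = 0 := by
  ext i j
  simpa [Matrix.trace_mul_single] using h (Matrix.single j i 1)

theorem eq_zero_of_trace (hP : ActsAbsolutelyIrreducibly (matrixSet P)) {X : Matrix ι ι F}
    (h : ∀ x ∈ P, (X * (x : Matrix ι ι F)).trace = 0) : X = 0 := by
  refine eq_zero_of_forall_trace fun Y => ?_
  have hY : Y ∈ Submodule.span F (matrixSet P) := span_eq_top hP ▸ Submodule.mem_top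
  induction hY using Submodule.span_induction with
  | mem Y hY => obtain ⟨x, hx, rfl⟩ := hY; exact h x hx
  | zero => simp
  | add A B _ _ hA hB => simp [mul_add, hA, hB]
  | smul c A _ hA => simp [hA]

/-- A basis of the matrix algebra inside the group. -/
theorem exists_basis (hP : ActsAbsolutelyIrreducibly (matrixSet P)) :
    ∃ (b : Module.Basis (Fin (Fintype.card ι * Fintype.card ι)) F (Matrix ι ι F))
      (g : Fin (Fintype.card ι * Fintype.card ι) → GL ι F),
      (∀ k, g k ∈ P) ∧ ∀ k, b k = (g k : Matrix ι ι F) := by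
  classical
  obtain ⟨s, hs, hspan, hli⟩ := exists_linearIndependent F (matrixSet P)
  rw [span_eq_top hP] at hspan
  let B : Module.Basis s F (Matrix ι ι F) := Module.Basis.mk hli (by simp [hspan])
  haveI : Fintype s := Fintype.ofFinite _
  have hc : Fintype.card s = Fintype.card ι * Fintype.card ι := by
    rw [← Module.finrank_eq_card_basis B, Module.finrank_matrix, Module.finrank_self, mul_one]
  let e := Fintype.equivFinOfCardEq hc
  choose g hg hgs using fun k => hs (e.symm k).2
  exact ⟨B.reindex e, g, hg, fun k => by simp [B, hgs]⟩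

theorem linearIndependent_of_gram (hP : ActsAbsolutelyIrreducibly (matrixSet P)) {κ : Type*}
    [Fintype κ] {b : Module.Basis κ F (Matrix ι ι F)} {c : κ → F}
    (h : ∀ l, ∑ k, c k * (b k * b l).trace = 0) : c = 0 := by
  have h0 : ∑ k, c k • b k = 0 := by
    refine eq_zero_of_forall_trace fun Y => ?_
    rw [← b.sum_repr Y, Finset.mul_sum, Matrix.trace_sum]
    refine Finset.sum_eq_zero fun l _ => ?_
    rw [mul_smul_comm, Matrix.trace_smul, Finset.sum_mul, Matrix.trace_sum]
    simp only [smul_mul_assoc, Matrix.trace_smul, smul_eq_mul, h l, mul_zero]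
  funext k
  exact Fintype.linearIndependent_iff.mp b.linearIndependent c h0 k

theorem trace_mul_eq_sum {κ : Type*} [Fintype κ] (b : Module.Basis κ F (Matrix ι ι F))
    (X Y : Matrix ι ι F) : (X * Y).trace = ∑ k, b.repr X k * (b k * Y).trace := by
  conv_lhs => rw [← b.sum_repr X]
  simp only [Finset.sum_mul, Matrix.trace_sum, smul_mul_assoc, Matrix.trace_smul, smul_eq_mul]

/-- Traces in a subfield give realisability over it. -/
theorem realisableOver_of_traces (hP : ActsAbsolutelyIrreducibly (matrixSet P)) (F₀ : Subfield F)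
    (h : ∀ x ∈ P, (x : Matrix ι ι F).trace ∈ F₀) : RealisableOver F₀ (matrixSet P) := by
  classical
  obtain ⟨b, g, hg, hbg⟩ := exists_basis hP
  refine realisableOver_of_basis F₀ hP.1 b b.linearIndependent (Fintype.card_fin _)
    (fun k => hbg k ▸ mem_matrixSet (hg k)) ?_
  rintro _ ⟨x, hx, rfl⟩
  have hmem : ∀ y ∈ P, ∀ l, ((y : Matrix ι ι F) * b l).trace ∈ F₀ := fun y hy l => by
    rw [hbg, ← Units.val_mul]; exact h _ (P.mul_mem hy (hg l))
  let M₀ : Matrix _ _ F₀ := Matrix.of fun k l =>
    (⟨(b k * b l).trace, by rw [hbg k]; exact hmem _ (hg k) l⟩ : F₀)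
  let M : Matrix _ _ F := M₀.map (Subfield.subtype F₀)
  have hinj : ∀ c, c ᵥ* M = 0 → c = 0 := fun c hc =>
    linearIndependent_of_gram hP fun l => by
      simpa [Matrix.vecMul, dotProduct, M, M₀] using congrFun hc l
  have hdet : M₀.det ≠ 0 := by
    intro h0
    obtain ⟨c, hc0, hc⟩ := (Matrix.exists_vecMul_eq_zero_iff (M := M)).mpr (by
      rw [show M.det = Subfield.subtype F₀ M₀.det from (RingHom.map_det _ _).symm, h0, map_zero])
    exact hc0 (hinj c hc)
  let w₀ : Fin (Fintype.card ι * Fintype.card ι) → F₀ := fun l => ⟨_, hmem x hx l⟩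
  let r₀ := w₀ ᵥ* M₀⁻¹
  have hr₀ : (fun k => (r₀ k : F)) ᵥ* M = fun l => (w₀ l : F) := by
    funext l
    have e := RingHom.map_vecMul (Subfield.subtype F₀) M₀ r₀ l
    rw [show r₀ ᵥ* M₀ = w₀ by
      simp [r₀, Matrix.vecMul_vecMul, Matrix.nonsing_inv_mul _ (isUnit_iff_ne_zero.mpr hdet)]] at e
    exact e.symm
  have hr : (fun k => b.repr (x : Matrix ι ι F) k) = fun k => (r₀ k : F) := by
    refine sub_eq_zero.mp (hinj _ ?_)
    rw [Matrix.sub_vecMul, hr₀, sub_eq_zero]
    funext l
    show _ = ((x : Matrix ι ι F) * b l).trace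
    rw [trace_mul_eq_sum b]
    simp [Matrix.vecMul, dotProduct, M, M₀]
  show (x : Matrix ι ι F) ∈ Submodule.span F₀ (Set.range b)
  rw [← b.sum_repr (x : Matrix ι ι F)]
  refine Submodule.sum_mem _ fun k _ => ?_
  rw [congrFun hr k]
  exact Submodule.smul_mem _ (r₀ k) (Submodule.subset_span ⟨k, rfl⟩)

/-- Traces compatible with inversion give an invariant form. -/
theorem exists_invariant_gram (hP : ActsAbsolutelyIrreducibly (matrixSet P)) (σ : F ≃+* F)
    (hσ : ∀ a, σ (σ a) = a)
    (h : ∀ x ∈ P, σ ((x : Matrix ι ι F).trace) = ((x⁻¹ : GL ι F) : Matrix ι ι F).trace) :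
    ∃ G : Matrix ι ι F, IsUnit G ∧ ∀ x ∈ P, gtr σ G (x : Matrix ι ι F) = G := by
  classical
  obtain ⟨b, g, hg, hbg⟩ := exists_basis hP
  let ψ : GL ι F → Matrix ι ι F := fun x => (((x⁻¹ : GL ι F) : Matrix ι ι F).map σ)ᵀ
  have hψm : ∀ x y, ψ (x * y) = ψ x * ψ y := fun x y => by
    simp only [ψ]
    rw [_root_.mul_inv_rev, Units.val_mul, Matrix.map_mul, Matrix.transpose_mul]
  have hψt : ∀ x ∈ P, (ψ x).trace = (x : Matrix ι ι F).trace := fun x hx => by
    have : (ψ x).trace = σ ((x⁻¹ : GL ι F) : Matrix ι ι F).trace := by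
      simp [ψ, Matrix.trace, map_sum]
    rw [this, ← h x hx, hσ]
  have hli : LinearIndependent F fun k => ψ (g k) := by
    rw [Fintype.linearIndependent_iff]
    intro c hc k
    refine congrFun (linearIndependent_of_gram (b := b) hP (c := c) fun l => ?_) k
    have := congrArg (fun Y => (Y * ψ (g l)).trace) hc
    simp only [Finset.sum_mul, Matrix.trace_sum, smul_mul_assoc, Matrix.trace_smul, smul_eq_mul,
      zero_mul, Matrix.trace_zero] at this
    refine Eq.trans (Finset.sum_congr rfl fun i _ => ?_) this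
    rw [← hψm, hψt _ (P.mul_mem (hg i) (hg l)), hbg, hbg, Units.val_mul]
  have hspan : Submodule.span F (Set.range fun k => ψ (g k)) = ⊤ :=
    hli.span_eq_top_of_card_eq_finrank' (by simp [Module.finrank_matrix])
  let L : Matrix ι ι F →ₗ[F] Matrix ι ι F := b.constr F fun k => ψ (g k)
  have hLb : ∀ k, L (b k) = ψ (g k) := fun k => b.constr_basis F _ k
  have hpair : ∀ (X : Matrix ι ι F) l, (L X * ψ (g l)).trace = (X * b l).trace := fun X l => by
    conv_lhs => rw [← b.sum_repr X]
    rw [trace_mul_eq_sum b X]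
    simp only [map_sum, map_smul, Finset.sum_mul, Matrix.trace_sum, hLb, smul_mul_assoc,
      Matrix.trace_smul, smul_eq_mul]
    refine Finset.sum_congr rfl fun i _ => ?_
    rw [← hψm, hψt _ (P.mul_mem (hg i) (hg l)), hbg, hbg, Units.val_mul]
  have hL : ∀ x ∈ P, L (x : Matrix ι ι F) = ψ x := fun x hx => by
    refine sub_eq_zero.mp (eq_zero_of_forall_trace fun Y => ?_)
    have hY : Y ∈ Submodule.span F (Set.range fun k => ψ (g k)) := hspan ▸ Submodule.mem_top
    induction hY using Submodule.span_induction with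
    | mem Y hY =>
      obtain ⟨l, rfl⟩ := hY
      rw [sub_mul, Matrix.trace_sub, hpair, ← hψm, hψt _ (P.mul_mem hx (hg l)), hbg, Units.val_mul,
        sub_self]
    | zero => simp
    | add A B _ _ hA hB => simp [mul_add, hA, hB]
    | smul c A _ hA => simp [hA]
  have hmul : ∀ X Y, L (X * Y) = L X * L Y := fun X Y => by
    have hX : X ∈ Submodule.span F (matrixSet P) := span_eq_top hP ▸ Submodule.mem_top
    have hY : Y ∈ Submodule.span F (matrixSet P) := span_eq_top hP ▸ Submodule.mem_top
    induction hX using Submodule.span_induction with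
    | mem X hX =>
      induction hY using Submodule.span_induction with
      | mem Y hY =>
        obtain ⟨x, hx, rfl⟩ := hX
        obtain ⟨y, hy, rfl⟩ := hY
        rw [← Units.val_mul, hL _ (P.mul_mem hx hy), hL x hx, hL y hy, hψm]
      | zero => simp
      | add A B _ _ hA hB => simp [mul_add, hA, hB]
      | smul c A _ hA => simp [hA]
    | zero => simp
    | add A B _ _ hA hB => simp [add_mul, hA, hB]
    | smul c A _ hA => simp [hA]
  have hone : L 1 = 1 := by
    simpa [ψ] using hL 1 P.one_mem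
  obtain ⟨u, hu⟩ := skolem_noether (AlgHom.ofLinearMap L hone hmul)
  refine ⟨(u : Matrix ι ι F)ᵀ, by simp [Matrix.isUnit_iff_isUnit_det, ← Matrix.isUnit_iff_isUnit_det], fun x hx => ?_⟩
  have h1 : ψ x * (u : Matrix ι ι F) = (u : Matrix ι ι F) * (x : Matrix ι ι F) := by
    rw [mul_eq_cj_mul, ← hu, ← hL x hx]; rfl
  have h2 : ((x : Matrix ι ι F).map σ)ᵀ * ψ x = 1 := by
    simp only [ψ, ← Matrix.transpose_mul, ← Matrix.map_mul]
    simp
  have h3 : ((x : Matrix ι ι F).map σ)ᵀ * (u : Matrix ι ι F) * (x : Matrix ι ι F) = u := by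
    rw [mul_assoc, ← h1, ← mul_assoc, h2, one_mul]
  show (x : Matrix ι ι F)ᵀ * _ * (x : Matrix ι ι F).map σ = _
  simpa [Matrix.transpose_mul, mul_assoc] using congrArg Matrix.transpose h3

/-- Traces equal on inverses give a quadratic form (odd characteristic, odd dimension). -/
theorem exists_quad_of_traces (hP : ActsAbsolutelyIrreducibly (matrixSet P)) (h2 : (2 : F) ≠ 0)
    (hodd : Odd (Fintype.card ι))
    (h : ∀ x ∈ P, (x : Matrix ι ι F).trace = ((x⁻¹ : GL ι F) : Matrix ι ι F).trace) :
    ∃ Q : (ι → F) → F, IsNondegenerateQuadraticForm Q ∧ FixesQuadForm (matrixSet P) Q := by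
  classical
  obtain ⟨G, hG, hfix⟩ := exists_invariant_gram hP (RingEquiv.refl F) (fun _ => rfl) h
  have hT : ∀ s ∈ matrixSet P, gtr (RingEquiv.refl F) Gᵀ s = Gᵀ := by
    rintro _ ⟨x, hx, rfl⟩
    have := congrArg Matrix.transpose (hfix x hx)
    simpa [gtr, Matrix.transpose_mul, mul_assoc] using this
  obtain ⟨c, hc⟩ := invariant_unique hP hG (fun s ⟨x, hx, e⟩ => e ▸ hfix x hx) hT
  have hsymm : Gᵀ = G := by
    obtain ⟨i, j, hij⟩ : ∃ i j, G i j ≠ 0 := by
      by_contra hne
      push Not at hne
      rw [show G = 0 from Matrix.ext hne] at hG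
      exact not_isUnit_zero hG
    have hcc : c * c = 1 := by
      have e1 := congrFun (congrFun hc i) j
      have e2 := congrFun (congrFun hc j) i
      simp at e1 e2
      have : c * c * G i j = 1 * G i j := by linear_combination -e2 - c * e1
      exact mul_right_cancel₀ hij this
    rcases mul_self_eq_one_iff.mp hcc with rfl | rfl
    · simpa using hc
    · exfalso
      have hs : ∀ i j, G i j = -G j i := fun i j => by
        have := congrFun (congrFun hc j) i
        simpa using this
      refine Nat.not_even_iff_odd.mpr hodd (even_card_of_alternating hs (fun i => ?_) hG)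
      have := hs i i
      exact (mul_eq_zero.mp (show (2 : F) * G i i = 0 by linear_combination this)).resolve_left h2
  let f := formOfGram (RingEquiv.refl F) G
  have hf := isSesq_formOfGram (RingEquiv.refl F) G
  have hcomm : ∀ u v, f u v = f v u := fun u v => by
    show formOfGram _ G u v = formOfGram _ G v u
    rw [formOfGram_eq, formOfGram_eq]
    simp only [RingEquiv.coe_refl, Function.id_comp]
    rw [Matrix.dotProduct_mulVec, dotProduct_comm, ← Matrix.mulVec_transpose, hsymm]
  refine ⟨fun v => f v v, ⟨fun a v => ?_, ?_, ?_⟩, ?_⟩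
  · show formOfGram _ G _ _ = a ^ 2 * formOfGram _ G v v
    rw [hf.smul_left, hf.smul_right, RingEquiv.refl_apply]; ring
  · have e : ∀ u v, QuadraticMap.polar (fun v => f v v) u v = 2 * f u v := fun u v => by
      simp only [QuadraticMap.polar, f, hf.add_left, hf.add_right]
      linear_combination hcomm v u
    refine ⟨fun x y v => ?_, fun a x v => ?_, fun v x y => ?_, fun a v x => ?_⟩ <;>
      simp only [e, f, hf.add_left, hf.smul_left, hf.add_right, hf.smul_right,
        RingEquiv.refl_apply] <;> ring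
  · have e : ∀ u v, QuadraticMap.polar (fun v => f v v) u v = 2 * f u v := fun u v => by
      simp only [QuadraticMap.polar, f, hf.add_left, hf.add_right]
      linear_combination hcomm v u
    intro v hv
    obtain ⟨⟨x, hx⟩, y, hy⟩ := nondegenerate_formOfGram (σ := RingEquiv.refl F) hG v hv
    exact ⟨⟨x, by rw [e]; exact mul_ne_zero h2 hx⟩, y, by rw [e]; exact mul_ne_zero h2 hy⟩
  · rintro _ ⟨x, hx, rfl⟩ v
    show f _ _ = f v v
    simp only [f]
    rw [formOfGram_mulVec, hfix x hx]

/-- Traces conjugate to those of the inverses give a unitary form. -/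
theorem exists_unitary_of_traces (hP : ActsAbsolutelyIrreducibly (matrixSet P)) {σ : F ≃+* F}
    (hσ : ∀ a, σ (σ a) = a) (hne : σ ≠ RingEquiv.refl F)
    (h : ∀ x ∈ P, σ ((x : Matrix ι ι F).trace) = ((x⁻¹ : GL ι F) : Matrix ι ι F).trace) :
    ∃ f : (ι → F) → (ι → F) → F, IsUnitaryForm σ f ∧ FixesForm (matrixSet P) f := by
  classical
  obtain ⟨G, hG, hfix⟩ := exists_invariant_gram hP σ hσ h
  have hid : ∀ M : Matrix ι ι F, (M.map σ).map σ = M := fun M => by ext i j; simp [hσ]
  have hT : ∀ s ∈ matrixSet P, gtr σ (G.map σ)ᵀ s = (G.map σ)ᵀ := by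
    rintro _ ⟨x, hx, rfl⟩
    have := congrArg (fun M : Matrix ι ι F => (M.map σ)ᵀ) (hfix x hx)
    simpa [gtr, Matrix.map_mul, Matrix.transpose_mul, Matrix.transpose_map, hid, mul_assoc] using this
  obtain ⟨c, hc⟩ := invariant_unique hP hG (fun s ⟨x, hx, e⟩ => e ▸ hfix x hx) hT
  have hce : ∀ i j, σ (G j i) = c * G i j := fun i j => by
    simpa using congrFun (congrFun hc i) j
  obtain ⟨i, j, hij⟩ : ∃ i j, G i j ≠ 0 := by
    by_contra hne'
    push Not at hne'
    rw [show G = 0 from Matrix.ext hne'] at hG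
    exact not_isUnit_zero hG
  have hcc : σ c * c = 1 := by
    have e1 := congrArg σ (hce i j)
    rw [hσ, map_mul, hce j i] at e1
    exact mul_right_cancel₀ (b := G i j) (fun h0 => hij h0) (by
      have e2 := hce j i
      have e3 := congrArg σ e2
      rw [hσ, map_mul, hce i j] at e3
      linear_combination -e3)
  obtain ⟨d, hd0, hd⟩ : ∃ d : F, d ≠ 0 ∧ σ d * c = d := by
    by_cases h1 : c = -1
    · obtain ⟨a, ha⟩ : ∃ a, σ a ≠ a := by
        by_contra hall
        push Not at hall
        exact hne (RingEquiv.ext hall)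
      refine ⟨a - σ a, sub_ne_zero.mpr (Ne.symm ha), ?_⟩
      rw [map_sub, hσ, h1]; ring
    · refine ⟨1 + c, fun h0 => h1 (eq_neg_of_add_eq_zero_right h0), ?_⟩
      rw [map_add, map_one]; linear_combination hcc
  have hGd : IsUnit (d • G) := by
    rw [Matrix.isUnit_iff_isUnit_det, Matrix.det_smul]
    exact (isUnit_iff_ne_zero.mpr (pow_ne_zero _ hd0)).mul ((Matrix.isUnit_iff_isUnit_det G).mp hG)
  have hherm : ∀ i j, (d • G) i j = σ ((d • G) j i) := fun i j => by
    simp only [Matrix.smul_apply, smul_eq_mul, map_mul, hce]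
    linear_combination -G i j * hd
  let f := formOfGram σ (d • G)
  have hf := isSesq_formOfGram σ (d • G)
  refine ⟨f, ⟨hne, hσ, hf.add_left, hf.smul_left, fun u v => ?_,
    nondegenerate_formOfGram hGd⟩, ?_⟩
  · simp only [f, formOfGram, map_sum, map_mul, hσ]
    rw [Finset.sum_comm]
    refine Finset.sum_congr rfl fun a _ => Finset.sum_congr rfl fun b _ => ?_
    rw [hherm b a]; ring
  · rintro _ ⟨x, hx, rfl⟩ u v
    simp only [f]
    rw [formOfGram_mulVec, gtr_smul, hfix x hx]

end Cfsg.Agent.Linear.Mitchell
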