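import Cfsg.Agent.Linear.Mitchell.Defs
import Cfsg.Agent.Aschbacher.Structure
import Cfsg.Agent.H99.Diag
import Cfsg.Agent.H63.PerfectAction

/-!
First consequences of the setting: normal subgroups, small invariant sets, scalars.
-/

set_option autoImplicit false

namespace Cfsg.Agent.Linear.Mitchell

open scoped MatrixGroups Matrix commutatorElement
open Cfsg.Geo

variable {F : Type*} [Field F] {P : Subgroup (GL (Fin 3) F)}

local notation "M3" => Matrix (Fin 3) (Fin 3) F

theorem det_of_mem_sl {g : GL (Fin 3) F} (hg : g ∈ specialLinear (Fin 3) F) : (g : M3).det = 1 := by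
  rw [specialLinear, MonoidHom.mem_ker] at hg
  simpa using congrArg Units.val hg

namespace Setting

variable (hS : Setting P)
include hS

theorem det_eq_one {g : GL (Fin 3) F} (hg : g ∈ P) : (g : M3).det = 1 := det_of_mem_sl (hS.le_sl hg)

theorem scalar_cube {g : GL (Fin 3) F} (hg : g ∈ P) {c : F} (hc : (g : M3) = c • 1) : c ^ 3 = 1 := by
  simpa [hc] using hS.det_eq_one hg

/-- A normal subset of `P` containing a non-scalar element generates it. -/
theorem normal_eq_top {N : Subgroup (GL (Fin 3) F)} (hle : N ≤ P)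
    (hnor : ∀ g ∈ P, ∀ x ∈ N, g * x * g⁻¹ ∈ N) {x : GL (Fin 3) F} (hx : x ∈ N)
    (hxs : x ∉ scalars (Fin 3) F) : N = P := by
  let S := (scalars (Fin 3) F).subgroupOf P
  have hN : (N.subgroupOf P).Normal := ⟨fun y hy g => hnor g g.2 y hy⟩
  have hmap : ((N.subgroupOf P).map (QuotientGroup.mk' S)).Normal :=
    hN.map _ (QuotientGroup.mk'_surjective S)
  haveI := hS.simple
  have htop : (N.subgroupOf P).map (QuotientGroup.mk' S) = ⊤ := by
    refine hmap.eq_bot_or_eq_top.resolve_left fun h => hxs ?_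
    have : QuotientGroup.mk' S ⟨x, hle hx⟩ ∈ (N.subgroupOf P).map (QuotientGroup.mk' S) :=
      Subgroup.mem_map_of_mem _ hx
    rw [h, Subgroup.mem_bot, QuotientGroup.mk'_apply, QuotientGroup.eq_one_iff] at this
    exact this
  have hdec : ∀ g ∈ P, ∃ n ∈ N, ∃ c ∈ scalars (Fin 3) F, g = n * c := by
    intro g hg
    obtain ⟨n, hn, he⟩ := htop.ge (Subgroup.mem_top (QuotientGroup.mk' S ⟨g, hg⟩))
    rw [QuotientGroup.mk'_eq_mk'] at he
    obtain ⟨z, hz, hnz⟩ := he
    exact ⟨n, hn, z, hz, (congrArg Subtype.val hnz).symm⟩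
  refine le_antisymm hle ?_
  rw [← hS.perfect]
  refine Subgroup.commutator_le.mpr fun g hg h hh => ?_
  obtain ⟨a, ha, c, hc, rfl⟩ := hdec g hg
  obtain ⟨b, hb, d, hd, rfl⟩ := hdec h hh
  have hcomm : ∀ z ∈ scalars (Fin 3) F, ∀ y : GL (Fin 3) F, y * z = z * y := by
    intro z hz y
    obtain ⟨u, hu⟩ := (mem_scalars_iff z).mp hz
    refine Units.ext ?_
    simp [hu]
  have : ⁅a * c, b * d⁆ = ⁅a, b⁆ := by
    simp only [commutatorElement_def]
    rw [_root_.mul_inv_rev, _root_.mul_inv_rev]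
    calc a * c * (b * d) * (c⁻¹ * a⁻¹) * (d⁻¹ * b⁻¹)
        = a * (c * b) * (d * c⁻¹) * a⁻¹ * (d⁻¹ * b⁻¹) := by group
      _ = a * (b * c) * (c⁻¹ * d) * a⁻¹ * (d⁻¹ * b⁻¹) := by
          rw [← hcomm c hc b, hcomm d hd c⁻¹]
      _ = a * b * (d * a⁻¹) * (d⁻¹ * b⁻¹) := by group
      _ = a * b * (a⁻¹ * d) * (d⁻¹ * b⁻¹) := by rw [hcomm d hd a⁻¹]
      _ = a * b * a⁻¹ * b⁻¹ := by group
  rw [this, commutatorElement_def]
  exact N.mul_mem (N.mul_mem (N.mul_mem ha hb) (N.inv_mem ha)) (N.inv_mem hb)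

/-- Homomorphisms to soluble groups are trivial. -/
theorem hom_eq_one {G : Type*} [Group G] [Group.IsSolvable G] (f : P →* G) (x : P) : f x = 1 := by
  have hp : commutator P = ⊤ := by
    refine Subgroup.map_injective P.subtype_injective ?_
    rw [commutator, Subgroup.map_commutator, ← MonoidHom.range_eq_map, Subgroup.range_subtype, hS.perfect]
  have hd : ∀ k, derivedSeries P k = ⊤ := fun k => by
    induction k with
    | zero => rfl
    | succ k ih => rw [derivedSeries_succ, ih, ← commutator_def, hp]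
  obtain ⟨n, hn⟩ := Group.IsSolvable.solvable (G := G)
  have := map_derivedSeries_le_derivedSeries f n
  rw [hn, hd n, le_bot_iff] at this
  exact Subgroup.mem_bot.mp (this ▸ Subgroup.mem_map_of_mem f (Subgroup.mem_top x))

/-- An invariant set of at most four objects is fixed pointwise. -/
theorem fixes_of_small {α : Type*} (act : GL (Fin 3) F → α → α) (S : Finset α) (h4 : S.card ≤ 4)
    (hone : ∀ a, act 1 a = a) (hmul : ∀ g h a, act (g * h) a = act g (act h a))
    (hinv : ∀ g ∈ P, ∀ a ∈ S, act g a ∈ S) : ∀ g ∈ P, ∀ a ∈ S, act g a = a := by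
  classical
  haveI : Group.IsSolvable (Equiv.Perm S) := H63.PerfectAction.isSolvable_perm_le_four (by simpa using h4)
  let f : P →* Equiv.Perm S :=
    { toFun := fun g =>
        { toFun := fun a => ⟨act g a, hinv g g.2 a a.2⟩
          invFun := fun a => ⟨act (g : GL (Fin 3) F)⁻¹ a, hinv _ (P.inv_mem g.2) a a.2⟩
          left_inv := fun a => Subtype.ext (by simp [← hmul, hone])
          right_inv := fun a => Subtype.ext (by simp [← hmul, hone]) }
      map_one' := by ext a; simp [hone]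
      map_mul' := fun g h => by ext a; simp [hmul] }
  intro g hg a ha
  exact congrArg Subtype.val (Equiv.ext_iff.mp (hS.hom_eq_one f ⟨g, hg⟩) ⟨a, ha⟩)

/-- `P` commutes with no non-scalar matrix. -/
theorem scalar_of_commute [Finite F] {X : M3} (h : ∀ g ∈ P, (g : M3) * X = X * (g : M3)) :
    ∃ c : F, X = c • 1 :=
  hS.abs.2 X fun _ ⟨g, hg, e⟩ => e ▸ (h g hg).symm

/-- An invariant set of at most four matrices consists of scalars. -/
theorem scalar_of_small_set [Finite F] (S : Finset M3) (h4 : S.card ≤ 4)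
    (hinv : ∀ g ∈ P, ∀ X ∈ S, Cfsg.Agent.Aschbacher.cj g X ∈ S) {X : M3} (hX : X ∈ S) :
    ∃ c : F, X = c • 1 := by
  refine hS.scalar_of_commute fun g hg => ?_
  have := hS.fixes_of_small (fun g X => Cfsg.Agent.Aschbacher.cj g X) S h4
    (fun a => by simp [Cfsg.Agent.Aschbacher.cj_apply]) (fun g h a => Cfsg.Agent.Aschbacher.cj_mul g h a)
    hinv g hg X hX
  rw [Cfsg.Agent.Aschbacher.mul_eq_cj_mul, this]

/-- A scalar times a transvection gives a transvection. -/
theorem inTv_of_scalar_mul [Finite F] (hN : NoTransvection P) {g : GL (Fin 3) F} (hg : g ∈ P) {c : F}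
    {a φ : Fin 3 → F} (hφ : φ ⬝ᵥ a = 0) (he : (g : M3) = c • H95.tvMat a φ) : (g : M3) = c • 1 := by
  by_cases ha : a = 0
  · simp [he, ha, H95.tvMat]
  have hdet : c ^ 3 = 1 := by
    have := hS.det_eq_one hg
    rw [he, Matrix.det_smul, Fintype.card_fin] at this
    have h1 : (H95.tvMat a φ).det = 1 := det_of_mem_sl (H95.tv_mem_specialLinear a φ hφ)
    rwa [h1, mul_one] at this
  have hsq : Matrix.vecMulVec a φ * Matrix.vecMulVec a φ = 0 := by
    rw [Matrix.vecMulVec_mul_vecMulVec, hφ, zero_smul, Matrix.vecMulVec_zero]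
  by_cases h3 : (3 : F) = 0
  · have hc : c = 1 := by
      have : (c - 1) ^ 3 = 0 := by linear_combination hdet - (c ^ 2 - c) * h3
      exact sub_eq_zero.mp (pow_eq_zero_iff (by norm_num) |>.mp this)
    have htv : H95.InTv P a φ := ⟨hφ, by
      rwa [show H95.tv a φ hφ = g from Units.ext (by rw [H95.tv_val, he, hc, one_smul])]⟩
    rw [he, hN a φ ha htv]
    simp [H95.tvMat]
  · have h3φ : ((3 : F) • φ) ⬝ᵥ a = 0 := by simp [hφ]
    have htv : H95.InTv P a ((3 : F) • φ) := ⟨h3φ, by
      convert P.pow_mem hg 3 using 1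
      refine Units.ext ?_
      rw [H95.tv_val, Units.val_pow_eq_pow_val, he, smul_pow, hdet, one_smul, H95.tvMat, H95.tvMat,
        Matrix.vecMulVec_smul]
      generalize Matrix.vecMulVec a φ = N at hsq
      rw [pow_succ, pow_succ, pow_one]
      simp only [mul_add, add_mul, one_mul, mul_one, hsq, zero_mul, add_zero]
      rw [show (3 : F) • N = N + N + N by rw [show (3 : F) = 1 + 1 + 1 by norm_num, add_smul, add_smul, one_smul]]
      abel⟩
    have := hN a _ ha htv
    rw [smul_eq_zero, or_iff_right h3] at this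
    simp [he, this, H95.tvMat]

end Setting

/-- An element of order `n` is diagonalisable once `F` has `n` roots of unity of that order. -/
theorem exists_diagonal_of_roots {n : ℕ} (hn : 0 < n) {ζ : F} (hζ : IsPrimitiveRoot ζ n)
    {x : GL (Fin 3) F} (hx : x ^ n = 1) :
    ∃ (g : GL (Fin 3) F) (d : Fin 3 → F),
      ((g * x * g⁻¹ : GL (Fin 3) F) : M3) = Matrix.diagonal d ∧ ∀ i, d i ^ n = 1 := by
  classical
  have h0 : Polynomial.aeval (x : M3)
      (∏ c ∈ Polynomial.nthRootsFinset n (1 : F), (Polynomial.X - Polynomial.C c)) = 0 := by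
    rw [← Polynomial.X_pow_sub_one_eq_prod hn hζ]
    simp [← Units.val_pow_eq_pow_val, hx]
  obtain ⟨e, he, hP⟩ := H99.exists_specialLinear_conj_diagonal x _ h0
  obtain ⟨Q, -, hQ⟩ := hP 1
  exact ⟨Q⁻¹, e, by simpa using hQ, fun i => (Polynomial.mem_nthRootsFinset hn _).mp (he i)⟩

end Cfsg.Agent.Linear.Mitchell
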