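import Cfsg.Agent.Linear.Mitchell.Centraliser.Iso

/-!
Changing the basis: conjugates of `P`, and normal forms of involutions.
-/

set_option autoImplicit false

namespace Cfsg.Agent.Linear.Mitchell

open scoped MatrixGroups Matrix
open Cfsg.Geo Matrix

variable {F : Type*} [Field F] {P : Subgroup (GL (Fin 3) F)}

local notation "M3" => Matrix (Fin 3) (Fin 3) F

/-- The conjugate group `gPg⁻¹`. -/
abbrev conjP (g : GL (Fin 3) F) (P : Subgroup (GL (Fin 3) F)) : Subgroup (GL (Fin 3) F) :=
  P.map (MulAut.conj g).toMonoidHom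

theorem mem_conjP {g x : GL (Fin 3) F} : x ∈ conjP g P ↔ g⁻¹ * x * g ∈ P := by
  rw [Subgroup.mem_map]
  constructor
  · rintro ⟨y, hy, rfl⟩
    simpa [mul_assoc] using hy
  · intro h
    exact ⟨_, h, by simp [mul_assoc]⟩

theorem conj_mem_conjP {g x : GL (Fin 3) F} (hx : x ∈ P) : g * x * g⁻¹ ∈ conjP g P := ⟨x, hx, rfl⟩

theorem conj_scalar_iff (g x : GL (Fin 3) F) :
    g * x * g⁻¹ ∈ scalars (Fin 3) F ↔ x ∈ scalars (Fin 3) F := by
  refine ⟨fun h => ?_, fun h => (scalars_normal (ι := Fin 3) (F := F)).conj_mem x h g⟩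
  simpa [mul_assoc] using (scalars_normal (ι := Fin 3) (F := F)).conj_mem _ h g⁻¹

/-- Conjugation on the quotient by scalars. -/
noncomputable def pxConj (g : GL (Fin 3) F) : PX P ≃* PX (conjP g P) :=
  QuotientGroup.congr _ _ (P.equivMapOfInjective _ (MulAut.conj g).injective) (by
    ext x
    constructor
    · rintro ⟨y, hy, rfl⟩
      exact (conj_scalar_iff g _).mpr hy
    · intro hx
      obtain ⟨y, rfl⟩ := (P.equivMapOfInjective _ (MulAut.conj g).injective).surjective x
      exact ⟨y, (conj_scalar_iff g _).mp hx, rfl⟩)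

theorem pxConj_px (g : GL (Fin 3) F) (x : P) :
    pxConj g (px P x) = px (conjP g P) ⟨g * x * g⁻¹, conj_mem_conjP x.2⟩ := rfl

theorem trace_conjP (g x : GL (Fin 3) F) : ((g * x * g⁻¹ : GL (Fin 3) F) : M3).trace = (x : M3).trace := by
  rw [Units.val_mul, Units.val_mul, Matrix.trace_mul_comm, ← mul_assoc, ← Units.val_mul, inv_mul_cancel,
    Units.val_one, one_mul]

theorem Setting.conjP (hS : Setting P) (g : GL (Fin 3) F) : Setting (conjP g P) where
  le_sl := by
    intro x hx
    have hn : (specialLinear (Fin 3) F).Normal := MonoidHom.normal_ker _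
    obtain ⟨y, hy, rfl⟩ := hx
    exact hn.conj_mem y (hS.le_sl hy) g
  perfect := by rw [← Subgroup.map_commutator, hS.perfect]
  abs := by
    constructor
    · intro W hW
      have key := hS.abs.1 (W.map (Matrix.toLin' ((g⁻¹ : GL (Fin 3) F) : M3))) ?_
      · have hinj : Function.Injective (Matrix.toLin' ((g⁻¹ : GL (Fin 3) F) : M3)) := fun a b h => by
          have := congrArg (fun v => ((g : GL (Fin 3) F) : M3) *ᵥ v) h
          simpa [Matrix.mulVec_mulVec] using this
        rcases key with h | h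
        · exact Or.inl (Submodule.map_injective_of_injective hinj (h.trans (Submodule.map_bot _).symm))
        · refine Or.inr (Submodule.map_injective_of_injective hinj (h.trans ?_))
          rw [Submodule.map_top, LinearMap.range_eq_top.mpr]
          exact fun v => ⟨((g : GL (Fin 3) F) : M3) *ᵥ v, by simp [Matrix.mulVec_mulVec]⟩
      · rintro _ ⟨x, hx, rfl⟩ _ ⟨_, ⟨w, hw, rfl⟩, rfl⟩
        refine ⟨((g * x * g⁻¹ : GL (Fin 3) F) : M3) *ᵥ w,
          hW _ ⟨_, conj_mem_conjP hx, rfl⟩ ⟨w, hw, by simp [mul_assoc]⟩, ?_⟩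
        simp [Matrix.mulVec_mulVec, ← mul_assoc]
    · intro M hM
      have hcm : ∀ s ∈ matrixSet P,
          ((g⁻¹ : GL (Fin 3) F) : M3) * M * (g : M3) * s = s * (((g⁻¹ : GL (Fin 3) F) : M3) * M * (g : M3)) := by
        rintro _ ⟨x, hx, rfl⟩
        have := hM _ ⟨_, conj_mem_conjP (g := g) hx, rfl⟩
        have := congrArg (fun X : M3 => ((g⁻¹ : GL (Fin 3) F) : M3) * X * (g : M3)) this
        simp only [Units.val_mul, mul_assoc, Units.inv_mul, mul_one, Units.inv_mul_cancel_left] at this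
        simpa only [mul_assoc] using this
      obtain ⟨c, hc⟩ := hS.abs.2 _ hcm
      refine ⟨c, ?_⟩
      have := congrArg (fun X : M3 => (g : M3) * X * ((g⁻¹ : GL (Fin 3) F) : M3)) hc
      simp only [mul_assoc, Units.mul_inv, mul_one, Units.mul_inv_cancel_left, mul_smul_comm, smul_mul_assoc, one_mul] at this
      exact this
  simple := by
    haveI := hS.simple
    haveI := (pxConj (P := P) g).toEquiv.symm.nontrivial
    exact IsSimpleGroup.isSimpleGroup_of_surjective (pxConj g).toMonoidHom (pxConj g).surjective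

theorem NoTransvection.conjP (h : NoTransvection P) (g : GL (Fin 3) F) :
    NoTransvection (conjP g P) := by
  rintro a φ ha ⟨h0, h1⟩
  have hm := mem_conjP.mp h1
  have ha' : ((g⁻¹ : GL (Fin 3) F) : M3) *ᵥ a ≠ 0 := fun e => ha (by
    have := congrArg (fun v => (g : M3) *ᵥ v) e
    simpa [Matrix.mulVec_mulVec] using this)
  have hT : H95.InTv P (((g⁻¹ : GL (Fin 3) F) : M3) *ᵥ a) (φ ᵥ* (g : M3)) := by
    refine ⟨by rw [← dotProduct_mulVec, Matrix.mulVec_mulVec]; simp [h0], ?_⟩
    convert hm using 1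
    refine Units.ext ?_
    simp [H95.tv_val, H95.tvMat, mul_add, add_mul, Matrix.mul_vecMulVec, Matrix.vecMulVec_mul]
  have := h _ _ ha' hT
  have e := congrArg (fun v => v ᵥ* ((g⁻¹ : GL (Fin 3) F) : M3)) this
  simpa [Matrix.vecMul_vecMul] using e

theorem HasHomology.of_conjP {g : GL (Fin 3) F} {lam : F} (h : HasHomology (conjP g P) lam) :
    HasHomology P lam := by
  obtain ⟨x, hx, c, a, φ, h1, he⟩ := h
  refine ⟨_, mem_conjP.mp hx, c, ((g⁻¹ : GL (Fin 3) F) : M3) *ᵥ a, φ ᵥ* (g : M3), ?_, ?_⟩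
  · rw [← dotProduct_mulVec, Matrix.mulVec_mulVec]; simpa using h1
  · simp [he, mul_add, add_mul, Matrix.mul_vecMulVec, Matrix.vecMulVec_mul, smul_add]

open scoped Classical in
/-- An involution modulo scalars becomes `t0` after a change of basis. -/
theorem exists_invSetting {p : ℕ} [Fact p.Prime] [CharP F p] (hp : p ≠ 2) (hS : Setting P)
    (hN : NoTransvection P) (hH : ∀ lam : F, HasHomology P lam → lam ^ 2 = 1) {x : PX P}
    (hx : orderOf x = 2) :
    ∃ (g : GL (Fin 3) F) (hI : InvSetting p (conjP g P)), pxConj g x = hI.tX := by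
  have h2 : (2 : F) ≠ 0 := Ring.two_ne_zero (by rwa [ringChar.eq F p])
  obtain ⟨u, rfl, hu2, hu1⟩ := hS.exists_involution_lift h2 hx
  have hu : (u : GL (Fin 3) F) ^ 2 = 1 := by rw [sq]; exact congrArg Subtype.val hu2
  obtain ⟨e, he, hP⟩ := H99.exists_specialLinear_conj_diagonal (u : GL (Fin 3) F) ({1, -1} : Finset F) (by
    have hne : (1 : F) ≠ -1 := fun h => h2 (by linear_combination h)
    rw [Finset.prod_pair hne]
    simp only [map_mul, map_sub, map_neg, map_one, map_add, Polynomial.aeval_X, sub_neg_eq_add]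
    have : ((u : GL (Fin 3) F) : M3) * (u : GL (Fin 3) F) = 1 := by
      rw [← Units.val_mul, ← sq, hu, Units.val_one]
    simp only [sub_mul, one_mul, mul_add, mul_one, this]
    abel)
  -- exactly one `1` among the eigenvalues
  obtain ⟨Q₁, -, hQ₁⟩ := hP 1
  have hdet : e 0 * e 1 * e 2 = 1 := by
    have := congrArg Matrix.det hQ₁
    rw [Matrix.det_diagonal, Units.val_mul, Units.val_mul, Matrix.det_mul, Matrix.det_mul,
      hS.det_eq_one u.2, mul_one, ← Matrix.det_mul, ← Units.val_mul, inv_mul_cancel, Units.val_one,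
      Matrix.det_one, Fin.prod_univ_three] at this
    simpa using this.symm
  have hne : ¬ (e 0 = 1 ∧ e 1 = 1 ∧ e 2 = 1) := by
    rintro ⟨a, b, c⟩
    apply hu1
    refine Subtype.ext (Units.ext ?_)
    have h1 : (Q₁⁻¹ * (u : GL (Fin 3) F) * Q₁ : GL (Fin 3) F) = 1 := by
      refine Units.ext (hQ₁.trans ?_)
      rw [Units.val_one, ← Matrix.diagonal_one]
      congr 1
      funext i
      fin_cases i <;> simp [a, b, c]
    have h3 : (u : GL (Fin 3) F) = 1 := by
      simpa [mul_assoc] using congrArg (fun z => Q₁ * z * Q₁⁻¹) h1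
    rw [h3]; rfl
  obtain ⟨σ, hσ⟩ : ∃ σ : Equiv.Perm (Fin 3), e ∘ σ = ![1, -1, -1] := by
    have h := he
    simp only [Finset.mem_insert, Finset.mem_singleton] at h
    rcases h 0 with a | a <;> rcases h 1 with b | b <;> rcases h 2 with c | c
    all_goals first
      | (refine absurd ?_ hne; simp [a, b, c]; done)
      | (exfalso; rw [a, b, c] at hdet; exact h2 (by linear_combination -hdet))
      | (refine ⟨1, ?_⟩; funext i; fin_cases i <;> simp [a, b, c]; done)
      | (refine ⟨Equiv.swap 0 1, ?_⟩; funext i; fin_cases i <;> simp [a, b, c, Equiv.swap_apply_def]; done)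
      | (refine ⟨Equiv.swap 0 2, ?_⟩; funext i; fin_cases i <;> simp [a, b, c, Equiv.swap_apply_def]; done)
  obtain ⟨Q, -, hQ⟩ := hP σ
  have ht : Q⁻¹ * (u : GL (Fin 3) F) * Q⁻¹⁻¹ = t0 := by
    refine Units.ext ?_
    rw [inv_inv, hQ, hσ, t0_val]
  refine ⟨Q⁻¹, ⟨hS.conjP _, Fact.out, inferInstance, h2, hN.conjP _, fun lam h => hH lam h.of_conjP,
    ht ▸ conj_mem_conjP u.2⟩, ?_⟩
  rw [pxConj_px]
  exact congrArg (px _) (Subtype.ext ht)

end Cfsg.Agent.Linear.Mitchell
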