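import Cfsg.Agent.Linear.Dickson.Main
import Cfsg.Agent.Linear.Dickson.SubfieldMax

/-!
Finite subgroups of `PGL₂(q)` of order prime to the characteristic, seen inside `PSL₂(q²)`.
-/

set_option autoImplicit false

namespace Cfsg.Agent.Linear.Mitchell

open Matrix Cfsg.Agent.Linear Cfsg.Agent.Linear.Dickson
open scoped MatrixGroups

/-- The possible isomorphism types of a finite subgroup of `PGL₂` of order prime to the characteristic. -/
def PlaneType (Q : Type*) [Group Q] : Prop :=
  IsCyclic Q ∨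
  (∃ A : Subgroup Q, IsCyclic A ∧ A.index = 2 ∧
    ∀ w, w ∉ A → w * w = 1 ∧ ∀ y ∈ A, w * y * w⁻¹ = y⁻¹) ∨
  Nonempty (Q ≃* alternatingGroup (Fin 4)) ∨ Nonempty (Q ≃* Equiv.Perm (Fin 4)) ∨
  Nonempty (Q ≃* alternatingGroup (Fin 5))

section Proj

variable {E : Type*} [Field E] [Fintype E] (p : ℕ) [Fact p.Prime] [CharP E p]

local notation "P2" => Matrix.ProjectiveSpecialLinearGroup (Fin 2) E

theorem planeType_of_not_dvd (H : Subgroup P2) (hp : ¬ p ∣ Nat.card H) : PlaneType H := by
  classical
  rcases shape p H with h | h | h | h | h | ⟨K, iK, iK', ι, g, w, h⟩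
  · obtain ⟨g, hg⟩ := h
    left
    obtain ⟨χ, hχ⟩ := exists_diagonal_hom (F := E)
    let f : H →* borel E :=
      { toFun := fun h => ⟨g * h * g⁻¹, hg _ h.2⟩
        map_one' := by simp
        map_mul' := fun a b => Subtype.ext (by simp [mul_assoc]) }
    refine isCyclic_of_injective ((χ.comp f)) ((injective_iff_map_eq_one _).mpr fun x hx => ?_)
    have h1 : (f x : P2) ∈ cen (stdUni : P2) := (hχ _).mp hx
    have hu : IsUni (f x : P2) := by
      by_cases h0 : (f x : P2) = 1
      · rw [h0, show (1 : P2) = proj 1 from (map_one _).symm, isUni_proj]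
        norm_num
      · exact (isUni_iff_of_mem_cen stdUni_ne_one h0 h1).mpr isUni_stdUni
    have hpow := pow_char_eq_one_of_isUni p hu
    have : (x : P2) ^ p = 1 := by
      have e : (f x : P2) ^ p = g * (x : P2) ^ p * g⁻¹ := by
        show (g * (x : P2) * g⁻¹) ^ p = _
        rw [conj_pow]
      rw [e] at hpow
      exact conj_eq_one_iff.mp hpow
    have hd : orderOf x ∣ p := orderOf_dvd_of_pow_eq_one (Subtype.ext (by simpa using this))
    rcases (Nat.dvd_prime Fact.out).mp hd with e | e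
    · exact orderOf_eq_one_iff.mp e
    · exact absurd (e ▸ orderOf_dvd_natCard x) hp
  · obtain ⟨a, ha, hH⟩ := h
    have := isCyclic_cen ha
    have hn : ∀ (g : P2), g ∈ H → ∀ y, y ∈ cen a ↔ g * y * g⁻¹ ∈ cen a := fun g hg =>
      Subgroup.mem_normalizer_iff.mp (hH hg)
    set A := (cen a).subgroupOf H with hA
    let f : A →* cen a :=
      { toFun := fun b => ⟨((b : H) : P2), b.2⟩
        map_one' := rfl
        map_mul' := fun _ _ => rfl }
    have hcyc : IsCyclic A := isCyclic_of_injective f fun b c e =>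
      Subtype.ext (Subtype.ext (congrArg (fun z : cen a => (z : P2)) e))
    by_cases hle : H ≤ cen a
    · left
      rw [hA, Subgroup.subgroupOf_eq_top.mpr hle] at hcyc
      exact isCyclic_of_surjective Subgroup.topEquiv Subgroup.topEquiv.surjective
    obtain ⟨w, hwH, hw⟩ := SetLike.not_le_iff_exists.mp hle
    refine Or.inr (Or.inl ⟨A, hcyc, ?_, fun v hv => ?_⟩)
    · rw [Subgroup.index_eq_two_iff]
      refine ⟨⟨w, hwH⟩, fun b => ?_⟩
      simp only [hA, Subgroup.mem_subgroupOf, Subgroup.coe_mul]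
      by_cases hb : (b : P2) ∈ cen a
      · refine Or.inr ⟨hb, fun hbg => hw ?_⟩
        simpa using (cen a).mul_mem ((cen a).inv_mem hb) hbg
      · exact Or.inl ⟨inverter_mul_mem ha (hn _ b.2) (hn w hwH) hb hw, hb⟩
    · rw [hA, Subgroup.mem_subgroupOf] at hv
      obtain ⟨h2, hinv⟩ := (normalizer_cases ha (hn v v.2)).resolve_left hv
      exact ⟨Subtype.ext h2, fun y hy => Subtype.ext (hinv _ hy)⟩
  · exact Or.inr (Or.inr (Or.inl h))
  · exact Or.inr (Or.inr (Or.inr (Or.inl h)))
  · exact Or.inr (Or.inr (Or.inr (Or.inr h)))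
  · exfalso
    have hle : (pslSub ι w).map (MulAut.conj g).toMonoidHom ≤ H := by
      rcases h with rfl | ⟨lam', ν', -, -, rfl⟩
      · exact le_rfl
      · exact Subgroup.map_mono (pslSub_le_pglSub ι w lam')
    set u : P2 := g * proj (upSL (w : E)) * g⁻¹ with hu
    have hmem : u ∈ H := hle (conj_mem_map_conj (proj_upSL_mem_pslSub ι w).1)
    have hne : u ≠ 1 := fun e => by
      have := (proj_eq_one_iff).mp (conj_eq_one_iff.mp e)
      simp [IsScalarTwo, upSL_coe] at this
    have hup : u ^ p = 1 := pow_char_eq_one_of_isUni p ((isUni_conj g).mpr (isUni_upSL _))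
    apply hp
    have hd : orderOf u ∣ p := orderOf_dvd_of_pow_eq_one hup
    have ho : orderOf (⟨u, hmem⟩ : H) = p := by
      rw [Subgroup.orderOf_mk]
      exact ((Nat.dvd_prime Fact.out).mp hd).resolve_left fun e => hne (orderOf_eq_one_iff.mp e)
    exact ho ▸ orderOf_dvd_natCard _

end Proj

section Lift

variable {F : Type*} [Field F] [Fintype F]

/-- A map `GL₂(F) → PSL₂(E)` with kernel the scalars, for `E` the quadratic extension. -/
theorem exists_toPSL (p : ℕ) [Fact p.Prime] [CharP F p] :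
    ∃ (E : Type) (_ : Field E) (_ : Fintype E) (_ : CharP E p)
      (Ψ : GL (Fin 2) F →* Matrix.ProjectiveSpecialLinearGroup (Fin 2) E),
      ∀ M, Ψ M = 1 ↔ IsScalarTwo (M : Matrix (Fin 2) (Fin 2) F) := by
  classical
  obtain ⟨n, hp, hn⟩ := FiniteField.card F p
  have hn2 : 2 * (n : ℕ) ≠ 0 := by have := n.pos; omega
  let iE : Fintype (GaloisField p (2 * n)) := Fintype.ofFinite _
  have hEc : Fintype.card F ^ 2 = Fintype.card (GaloisField p (2 * n)) := by
    rw [← Nat.card_eq_fintype_card (α := GaloisField p (2 * n)), GaloisField.card p _ hn2, hn, ← pow_mul,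
      mul_comm]
  obtain ⟨ι⟩ := exists_ringHom (K := F) (F := GaloisField p (2 * n)) one_le_two hEc
  have hsq : ∀ a : F, IsSquare (ι a) := fun a => by
    by_cases ha : a = 0
    · simp [ha]
    by_cases h2 : ringChar (GaloisField p (2 * n)) = 2
    · exact FiniteField.isSquare_of_char_two h2 _
    rw [FiniteField.isSquare_iff h2 (by simpa using ha), ← hEc, ← map_pow]
    have hodd : Fintype.card F % 2 = 1 := by
      refine FiniteField.odd_card_of_char_ne_two (F := F) ?_
      rwa [ringChar.eq F p, ← ringChar.eq (GaloisField p (2 * n)) p]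
    obtain ⟨k, hk⟩ : ∃ k, Fintype.card F = 2 * k + 1 := ⟨Fintype.card F / 2, by omega⟩
    have : Fintype.card F ^ 2 / 2 = (Fintype.card F - 1) * (k + 1) := by
      rw [hk, show (2 * k + 1) ^ 2 = 2 * (2 * k * (k + 1)) + 1 by ring, show 2 * k + 1 - 1 = 2 * k by omega]; omega
    rw [this, pow_mul, FiniteField.pow_card_sub_one_eq_one a ha, one_pow, map_one]
  choose r hr using hsq
  let lift : GL (Fin 2) F → Matrix.SpecialLinearGroup (Fin 2) (GaloisField p (2 * n)) := fun M =>
    ⟨(r (M : Matrix (Fin 2) (Fin 2) F).det)⁻¹ • (M : Matrix (Fin 2) (Fin 2) F).map ι, by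
      have hd : ι (M : Matrix (Fin 2) (Fin 2) F).det ≠ 0 := by
        simpa using Matrix.GeneralLinearGroup.det_ne_zero M
      rw [Matrix.det_smul, Fintype.card_fin, ← RingHom.mapMatrix_apply, ← RingHom.map_det,
        inv_pow, sq, ← hr, inv_mul_cancel₀ hd]⟩
  have hlift : ∀ M, proj (lift M) = 1 ↔ IsScalarTwo (M : Matrix (Fin 2) (Fin 2) F) := fun M => by
    have hr0 : r (M : Matrix (Fin 2) (Fin 2) F).det ≠ 0 := fun e => by
      have := hr (M : Matrix (Fin 2) (Fin 2) F).det
      rw [e, mul_zero, map_eq_zero] at this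
      exact Matrix.GeneralLinearGroup.det_ne_zero M this
    rw [proj_eq_one_iff]
    simp [lift, IsScalarTwo, hr0, ι.injective.eq_iff]
  refine ⟨GaloisField p (2 * n), inferInstance, iE, inferInstance,
    MonoidHom.mk' (fun M => proj (lift M)) fun A B => ?_, hlift⟩
  show proj (lift (A * B)) = proj (lift A) * proj (lift B)
  rw [← map_mul, eq_comm, proj_eq_iff]
  set a := r (A : Matrix (Fin 2) (Fin 2) F).det
  set b := r (B : Matrix (Fin 2) (Fin 2) F).det
  set c := r ((A * B : GL (Fin 2) F) : Matrix (Fin 2) (Fin 2) F).det with hc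
  have hcc : c * c = (a * b) * (a * b) := by
    rw [hc, ← hr, Units.val_mul, Matrix.det_mul, map_mul, hr, hr]; ring
  have hval : ((lift A * lift B : Matrix.SpecialLinearGroup (Fin 2) (GaloisField p (2 * n))) :
      Matrix (Fin 2) (Fin 2) (GaloisField p (2 * n))) =
      (a * b)⁻¹ • ((A * B : GL (Fin 2) F) : Matrix (Fin 2) (Fin 2) F).map ι := by
    rw [Matrix.SpecialLinearGroup.coe_mul, Units.val_mul, Matrix.map_mul, mul_inv]
    exact smul_mul_smul_comm _ _ _ _
  rcases mul_self_eq_mul_self_iff.mp hcc with e | e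
  · left
    apply Subtype.ext
    show c⁻¹ • _ = _
    rw [hval, e]
  · right
    apply Subtype.ext
    rw [Matrix.SpecialLinearGroup.coe_neg, hval]
    show c⁻¹ • _ = _
    rw [e, inv_neg, neg_smul]

end Lift

end Cfsg.Agent.Linear.Mitchell
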