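import Cfsg.Agent.Linear.Mitchell.Quotient
import Cfsg.Agent.Linear.Mitchell.Basic

/-!
In characteristic two there is always a transvection: an involution lifts to one.
-/

set_option autoImplicit false

namespace Cfsg.Agent.Linear.Mitchell

open scoped MatrixGroups Matrix
open Cfsg.Geo Matrix

variable {F : Type*} [Field F]

/-- A non-zero `3 × 3` matrix with square zero is a product of a column and a row which annihilate
each other. -/
theorem exists_vecMulVec_of_sq_zero {N : Matrix (Fin 3) (Fin 3) F} (hN : N * N = 0) (h0 : N ≠ 0) :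
    ∃ a φ : Fin 3 → F, a ≠ 0 ∧ φ ≠ 0 ∧ φ ⬝ᵥ a = 0 ∧ N = vecMulVec a φ := by
  classical
  have hNN : ∀ x, N *ᵥ (N *ᵥ x) = 0 := fun x => by rw [Matrix.mulVec_mulVec, hN, Matrix.zero_mulVec]
  obtain ⟨v, hv⟩ : ∃ v, N *ᵥ v ≠ 0 := by
    by_contra h
    push Not at h
    exact h0 (Matrix.ext_of_mulVec_single fun j => by rw [h, Matrix.zero_mulVec])
  set a := N *ᵥ v with ha
  have hspan : ∀ w, ∃ c : F, N *ᵥ w = c • a := by
    intro w
    by_contra hne
    push Not at hne
    set b := N *ᵥ w with hb
    have hind : LinearIndependent F ![v, w, a, b] := by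
      rw [Fintype.linearIndependent_iff]
      intro g hg
      simp [Fin.sum_univ_four] at hg
      have hab : ∀ x y : F, x • a + y • b = 0 → x = 0 ∧ y = 0 := fun x y h => by
        have hy : y = 0 := by
          by_contra hy
          refine hne (-x / y) ?_
          have hyb : y • b = (-x) • a := by rw [neg_smul]; exact eq_neg_of_add_eq_zero_right h
          calc b = y⁻¹ • (y • b) := (inv_smul_smul₀ hy b).symm
            _ = (-x / y) • a := by rw [hyb, smul_smul, div_eq_inv_mul]
        exact ⟨(smul_eq_zero.mp (by simpa [hy] using h)).resolve_right hv, hy⟩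
      have h1 := congrArg (N *ᵥ ·) hg
      simp only [Matrix.mulVec_add, Matrix.mulVec_smul, Matrix.mulVec_zero, ← ha, ← hb] at h1
      rw [show N *ᵥ a = 0 from hNN v, show N *ᵥ b = 0 from hNN w, smul_zero, smul_zero, add_zero,
        add_zero] at h1
      obtain ⟨h00, h11⟩ := hab _ _ h1
      rw [h00, h11, zero_smul, zero_smul, zero_add, zero_add] at hg
      obtain ⟨h22, h33⟩ := hab _ _ hg
      intro i
      fin_cases i <;> assumption
    have := hind.fintype_card_le_finrank
    simp at this
  choose c hc using hspan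
  have hN' : N = vecMulVec a fun j => c (Pi.single j 1) := Matrix.ext fun i j => by
    have := congrFun (hc (Pi.single j 1)) i
    rw [Matrix.mulVec_single_one] at this
    simpa [Matrix.vecMulVec_apply, mul_comm] using this
  refine ⟨a, fun j => c (Pi.single j 1), hv, fun h => h0 (by rw [hN', h, Matrix.vecMulVec_zero]), ?_, hN'⟩
  have h2 := hNN v
  rw [← ha, hN', Matrix.vecMulVec_mulVec] at h2
  exact (smul_eq_zero.mp (by simpa using h2)).resolve_right hv

variable [Finite F] {P : Subgroup (GL (Fin 3) F)}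

/-- In characteristic two `P` contains a transvection. -/
theorem not_noTransvection_two [CharP F 2] (hS : Setting P) : ¬ NoTransvection P := by
  intro hT
  haveI : Fact (Nat.Prime 2) := ⟨Nat.prime_two⟩
  obtain ⟨x, hx⟩ := exists_prime_orderOf_dvd_card' (G := PX P) 2 (even_iff_two_dvd.mp hS.even_card)
  obtain ⟨g, rfl⟩ := px_surjective x
  have hx2 : px P g * px P g = 1 := by rw [← sq, ← hx, pow_orderOf_eq_one]
  rw [← map_mul, px_eq_one] at hx2
  obtain ⟨c, hc⟩ := hx2
  have hc3 : c ^ 3 = 1 := hS.scalar_cube (g * g).2 hc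
  set G : GL (Fin 3) F := (g : GL (Fin 3) F) ^ 3 with hG
  have hG2 : (G : Matrix (Fin 3) (Fin 3) F) * G = 1 := by
    simp only [Subgroup.coe_mul, Units.val_mul] at hc
    rw [hG, ← Units.val_mul, ← pow_add, show 3 + 3 = 2 * 3 by norm_num, pow_mul, Units.val_pow_eq_pow_val, sq,
      Units.val_mul, hc, smul_pow, one_pow, hc3, one_smul]
  have hGne : (G : Matrix (Fin 3) (Fin 3) F) ≠ 1 := fun h => by
    have h1 : px P (g ^ 3) = 1 := by
      rw [show g ^ 3 = 1 from Subtype.ext (Units.ext h), map_one]
    rw [map_pow, pow_succ, ← hx, pow_orderOf_eq_one, one_mul] at h1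
    rw [h1, orderOf_one] at hx
    exact absurd hx (by norm_num)
  obtain ⟨a, φ, ha, hφ0, hφ, he⟩ := exists_vecMulVec_of_sq_zero
    (N := (G : Matrix (Fin 3) (Fin 3) F) - 1) (by
      rw [sub_mul, mul_sub, one_mul, mul_one, hG2]
      have h2 : (2 : F) = 0 := by exact_mod_cast CharP.cast_eq_zero F 2
      ext i j
      simp only [Matrix.sub_apply, Matrix.zero_apply]
      linear_combination ((1 : Matrix (Fin 3) (Fin 3) F) i j - (G : Matrix (Fin 3) (Fin 3) F) i j) * h2)
    (sub_ne_zero.mpr hGne)
  refine hφ0 (hT a φ ha ⟨hφ, ?_⟩)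
  rw [show H95.tv a φ hφ = G from Units.ext (by rw [H95.tv_val, H95.tvMat, ← he, add_sub_cancel])]
  exact P.pow_mem g.2 3

end Cfsg.Agent.Linear.Mitchell
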