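import Cfsg.Agent.Aschbacher.Subfield
import Cfsg.Agent.H95.Trans
import Cfsg.Prelude.Def_LieClassical

/-!
Mitchell's classification of the quasi-simple subgroups of `SL₃(F)`: the setting and the outcomes.
-/

set_option autoImplicit false

namespace Cfsg.Agent.Linear.Mitchell

open scoped MatrixGroups Matrix
open Cfsg.Geo

variable {F : Type*} [Field F]

/-- A perfect absolutely irreducible subgroup of `SL₃(F)` which is simple modulo scalars. -/
structure Setting (P : Subgroup (GL (Fin 3) F)) : Prop where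
  le_sl : P ≤ specialLinear (Fin 3) F
  perfect : ⁅P, P⁆ = P
  abs : ActsAbsolutelyIrreducibly (matrixSet P)
  simple : IsSimpleGroup (P ⧸ (scalars (Fin 3) F).subgroupOf P)

/-- The order of `P` modulo scalars. -/
noncomputable def projCard (P : Subgroup (GL (Fin 3) F)) : ℕ :=
  Nat.card (P ⧸ (scalars (Fin 3) F).subgroupOf P)

/-- `P` is conjugate to `SL₃` over a subfield. -/
def IsSLForm (P : Subgroup (GL (Fin 3) F)) : Prop :=
  ∃ (K : Subfield F) (g : GL (Fin 3) F),
    P = ((specialLinear (Fin 3) K).map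
      (Matrix.GeneralLinearGroup.map (n := Fin 3) (K.subtype : K →+* F))).map
        (MulAut.conj g).toMonoidHom

/-- `P` is conjugate to `SU₃` over a subfield. -/
def IsSUForm (P : Subgroup (GL (Fin 3) F)) : Prop :=
  ∃ (K : Subfield F) (q₀ : ℕ) (g : GL (Fin 3) F), Nat.card K = q₀ ^ 2 ∧ 3 ≤ q₀ ∧
    P = ((GU 3 K q₀ ⊓ specialLinear (Fin 3) K).map
      (Matrix.GeneralLinearGroup.map (n := Fin 3) (K.subtype : K →+* F))).map
        (MulAut.conj g).toMonoidHom

/-- `P` contains no transvection. -/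
def NoTransvection (P : Subgroup (GL (Fin 3) F)) : Prop :=
  ∀ a φ : Fin 3 → F, a ≠ 0 → H95.InTv P a φ → φ = 0

/-- `P` contains an element which is, up to a scalar, a homology of ratio `lam`: it acts as `c`
on a plane and as `c * lam` on a point outside it. -/
def HasHomology (P : Subgroup (GL (Fin 3) F)) (lam : F) : Prop :=
  ∃ g ∈ P, ∃ (c : F) (a φ : Fin 3 → F), φ ⬝ᵥ a = 1 ∧
    (g : Matrix (Fin 3) (Fin 3) F) = c • (1 + (lam - 1) • Matrix.vecMulVec a φ)

/-- Every element of order prime to `p` can be diagonalised over `F`. -/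
def IsSplit (p : ℕ) (P : Subgroup (GL (Fin 3) F)) : Prop :=
  ∀ x ∈ P, ¬ p ∣ orderOf x → ∃ (g : GL (Fin 3) F) (d : Fin 3 → F),
    ((g * x * g⁻¹ : GL (Fin 3) F) : Matrix (Fin 3) (Fin 3) F) = Matrix.diagonal d

/-- The outcomes of Mitchell's theorem. -/
def Outcome (p : ℕ) (P : Subgroup (GL (Fin 3) F)) : Prop :=
  IsSLForm P ∨ IsSUForm P ∨
  (p ≠ 2 ∧ ∃ Q : (Fin 3 → F) → F, IsNondegenerateQuadraticForm Q ∧ FixesQuadForm (matrixSet P) Q) ∨
  projCard P = 168 ∨ projCard P = 360 ∨ (projCard P = 2520 ∧ p = 5)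

end Cfsg.Agent.Linear.Mitchell
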