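import Cfsg.Agent.Linear.Mitchell.Basic
import Mathlib.FieldTheory.IsAlgClosed.AlgebraicClosure
import Mathlib.RingTheory.RootsOfUnity.EnoughRootsOfUnity

/-!
Elements of odd order: three distinct eigenvalues in the algebraic closure, an abelian centraliser,
and a normaliser acting through `S₃`.
-/

set_option autoImplicit false

namespace Cfsg.Agent.Linear.Mitchell

open scoped MatrixGroups Matrix
open Cfsg.Geo Matrix

variable {F : Type*} [Field F]

local notation "E" => AlgebraicClosure F
local notation "M3" => Matrix (Fin 3) (Fin 3) F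

/-- Extension of scalars to the algebraic closure. -/
noncomputable def toBar : GL (Fin 3) F →* GL (Fin 3) E :=
  Matrix.GeneralLinearGroup.map (algebraMap F E)

theorem toBar_val (x : GL (Fin 3) F) :
    ((toBar x : GL (Fin 3) E) : Matrix (Fin 3) (Fin 3) E) = (x : M3).map (algebraMap F E) := rfl

theorem toBar_injective : Function.Injective (toBar (F := F)) := fun x y h => Units.ext
  (Matrix.map_injective (algebraMap F E).injective (congrArg Units.val h))

/-- `x` has three distinct eigenvalues. -/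
def DistinctEigen (x : GL (Fin 3) F) : Prop :=
  ∃ (g : GL (Fin 3) E) (d : Fin 3 → E), Function.Injective d ∧
    ((g * toBar x * g⁻¹ : GL (Fin 3) E) : Matrix (Fin 3) (Fin 3) E) = Matrix.diagonal d

/-- An idempotent matrix of trace one with vanishing minors has rank one. -/
theorem exists_vecMulVec {A : M3} (ht : A.trace = 1)
    (hm : ∀ i j k l, A i j * A k l = A i l * A k j) :
    ∃ v φ : Fin 3 → F, φ ⬝ᵥ v = 1 ∧ A = vecMulVec v φ := by
  obtain ⟨i₀, j₀, h0⟩ : ∃ i j, A i j ≠ 0 := by
    by_contra hne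
    push Not at hne
    rw [show A = 0 from Matrix.ext hne, Matrix.trace_zero] at ht
    exact zero_ne_one ht
  have he : ∀ i j, A i j = A i j₀ * (A i₀ j₀)⁻¹ * A i₀ j := fun i j => by
    field_simp
    linear_combination hm i j i₀ j₀
  refine ⟨fun i => A i j₀ * (A i₀ j₀)⁻¹, fun j => A i₀ j, ?_, Matrix.ext he⟩
  rw [dotProduct, ← ht, Matrix.trace]
  exact Finset.sum_congr rfl fun i _ => by rw [Matrix.diag_apply, he i i]; ring

variable {P : Subgroup (GL (Fin 3) F)}

/-- Without homologies of ratio other than `-1`, a non-scalar element of odd order prime to the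
characteristic has three distinct eigenvalues. -/
theorem distinctEigen_of_odd (h2 : (2 : F) ≠ 0) (hH : ∀ lam : F, HasHomology P lam → lam ^ 2 = 1)
    {x : GL (Fin 3) F} (hxP : x ∈ P) {n : ℕ} (hn : Odd n) (hnF : (n : F) ≠ 0) (hxn : x ^ n = 1)
    (hsc : ∀ c : F, (x : M3) ≠ c • 1) : DistinctEigen x := by
  classical
  have hι := (algebraMap F E).injective
  haveI : NeZero (n : E) := ⟨by rw [← map_natCast (algebraMap F E)]; exact (map_ne_zero _).mpr hnF⟩
  obtain ⟨ζ, hζ⟩ := HasEnoughRootsOfUnity.exists_primitiveRoot E n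
  obtain ⟨g, d, hd, hdn⟩ := exists_diagonal_of_roots hn.pos hζ (x := toBar x) (by rw [← map_pow, hxn, map_one])
  refine ⟨g, d, fun i j hij => ?_, hd⟩
  by_contra hne
  set gm : Matrix (Fin 3) (Fin 3) E := (g : Matrix (Fin 3) (Fin 3) E) with hgm
  set gi : Matrix (Fin 3) (Fin 3) E := ((g⁻¹ : GL (Fin 3) E) : Matrix (Fin 3) (Fin 3) E) with hgi
  have hgig : gi * gm = 1 := Units.inv_mul g
  have hggi : gm * gi = 1 := Units.mul_inv g
  have hX : (x : M3).map (algebraMap F E) = gi * Matrix.diagonal d * gm := by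
    rw [← hd, Units.val_mul, Units.val_mul, ← toBar_val, ← hgm, ← hgi,
      show gi * (gm * (toBar x : Matrix (Fin 3) (Fin 3) E) * gi) * gm =
        (gi * gm) * (toBar x : Matrix (Fin 3) (Fin 3) E) * (gi * gm) by simp only [mul_assoc],
      hgig, one_mul, mul_one]
  have hconst : ∀ a : E, (∀ k, d k = a) → False := fun a ha => by
    have e : (x : M3).map (algebraMap F E) = a • 1 := by
      rw [hX, show Matrix.diagonal d = a • (1 : Matrix (Fin 3) (Fin 3) E) by
        rw [Matrix.smul_one_eq_diagonal]; exact congrArg _ (funext ha)]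
      simp [hgig]
    refine hsc ((x : M3) 0 0) (Matrix.ext fun k l => hι ?_)
    have h00 := congrFun (congrFun e 0) 0
    have hkl := congrFun (congrFun e k) l
    simp only [Matrix.map_apply, Matrix.smul_apply, Matrix.one_apply, smul_eq_mul, if_true, mul_one] at h00 hkl ⊢
    rw [hkl]
    by_cases hkl' : k = l <;> simp [hkl', h00]
  obtain ⟨σ, hσ01, hσ2⟩ : ∃ σ : Equiv.Perm (Fin 3), d (σ 0) = d (σ 1) ∧ d (σ 2) ≠ d (σ 0) := by
    have hcases : ∀ i j : Fin 3, i ≠ j → ∃ σ : Equiv.Perm (Fin 3), σ 0 = i ∧ σ 1 = j := by decide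
    obtain ⟨σ, hi, hj⟩ := hcases i j hne
    refine ⟨σ, by rw [hi, hj, hij], fun e => hconst (d i) fun k => ?_⟩
    obtain ⟨m, rfl⟩ := σ.surjective k
    fin_cases m
    · exact congrArg d hi
    · exact (congrArg d hj).trans hij.symm
    · exact e.trans (congrArg d hi)
  set a := d (σ 0) with ha
  set b := d (σ 2) with hb
  set s := (x : M3).trace with hs
  set e2 := (s ^ 2 - ((x : M3) * (x : M3)).trace) / 2 with he2
  set D := (x : M3).det with hD
  have hs' : algebraMap F E s = 2 * a + b := by
    rw [hs, AddMonoidHom.map_trace, hX, Matrix.trace_mul_comm, ← mul_assoc, hggi, one_mul,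
      Matrix.trace_diagonal, ← Equiv.sum_comp σ, Fin.sum_univ_three, ← hσ01]
    ring
  have hD' : algebraMap F E D = a ^ 2 * b := by
    rw [hD, RingHom.map_det, RingHom.mapMatrix_apply, hX, Matrix.det_mul, Matrix.det_mul, Matrix.det_diagonal,
      mul_comm, ← mul_assoc, ← Matrix.det_mul, hggi, Matrix.det_one, one_mul, ← Equiv.prod_comp σ,
      Fin.prod_univ_three, ← hσ01]
    ring
  have he2' : algebraMap F E e2 = a ^ 2 + 2 * a * b := by
    have hsq : algebraMap F E ((x : M3) * (x : M3)).trace = 2 * a ^ 2 + b ^ 2 := by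
      rw [AddMonoidHom.map_trace, Matrix.map_mul, hX,
        show gi * Matrix.diagonal d * gm * (gi * Matrix.diagonal d * gm) =
          gi * (Matrix.diagonal d * (gm * gi) * Matrix.diagonal d) * gm by simp only [mul_assoc],
        hggi, mul_one, Matrix.diagonal_mul_diagonal, Matrix.trace_mul_comm, ← mul_assoc, hggi, one_mul,
        Matrix.trace_diagonal, ← Equiv.sum_comp σ, Fin.sum_univ_three, ← hσ01]
      ring
    have h2E : (2 : E) ≠ 0 := by rw [← map_ofNat (algebraMap F E)]; exact (map_ne_zero _).mpr h2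
    rw [he2, map_div₀, map_sub, map_pow, hs', hsq, map_ofNat]
    field_simp
    ring
  have hab : b ≠ a := hσ2
  have hden : s ^ 2 - 3 * e2 ≠ 0 := fun h => by
    have := congrArg (algebraMap F E) h
    simp only [map_sub, map_pow, map_mul, map_ofNat, map_zero, hs', he2'] at this
    exact hab (sub_eq_zero.mp (eq_zero_of_pow_eq_zero (n := 2) (show (b - a) ^ 2 = 0 by linear_combination this)))
  set a₀ := (s * e2 - 9 * D) / (2 * (s ^ 2 - 3 * e2)) with ha₀
  set b₀ := s - 2 * a₀ with hb₀
  have hA : algebraMap F E a₀ = a := by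
    rw [ha₀, map_div₀, div_eq_iff ((map_ne_zero _).mpr (mul_ne_zero h2 hden))]
    simp only [map_sub, map_mul, map_pow, map_ofNat, hs', he2', hD']
    ring
  have hB : algebraMap F E b₀ = b := by
    rw [hb₀, map_sub, map_mul, map_ofNat, hA, hs']; ring
  have hab₀ : b₀ - a₀ ≠ 0 := fun h => hab (by
    have := congrArg (algebraMap F E) h
    rw [map_sub, hA, hB, map_zero, sub_eq_zero] at this
    exact this)
  set A : M3 := (b₀ - a₀)⁻¹ • ((x : M3) - a₀ • 1) with hA'
  have hAmap : A.map (algebraMap F E) =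
      gi * Matrix.diagonal (fun k => if k = σ 2 then 1 else 0) * gm := by
    have e : Matrix.diagonal (fun k => if k = σ 2 then (1 : E) else 0) =
        (b - a)⁻¹ • (Matrix.diagonal d - a • 1) := by
      rw [Matrix.smul_one_eq_diagonal, Matrix.diagonal_sub, ← Matrix.diagonal_smul]
      congr 1
      funext k
      obtain ⟨m, rfl⟩ := σ.surjective k
      fin_cases m
      · simp [← ha]
      · simp [← hσ01, ← ha]
      · simp [← hb, sub_ne_zero.mpr hab]
    have em : A.map (algebraMap F E) = (b - a)⁻¹ • ((x : M3).map (algebraMap F E) - a • 1) := by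
      rw [hA', Matrix.map_smul' _ _ _ (map_mul _), Matrix.map_sub _ (map_sub _), Matrix.map_smul' _ _ _ (map_mul _),
        Matrix.map_one _ (map_zero _) (map_one _), map_inv₀, map_sub, hA, hB]
    rw [em, e, Matrix.mul_smul, Matrix.smul_mul, mul_sub, sub_mul, ← hX, Matrix.mul_smul, Matrix.smul_mul, mul_one,
      hgig]
  obtain ⟨v, φ, hφ, hAe⟩ := exists_vecMulVec (A := A) (hι (by
      rw [AddMonoidHom.map_trace, hAmap, Matrix.trace_mul_comm, ← mul_assoc, hggi, one_mul, map_one,
        Matrix.trace_diagonal]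
      simp))
    fun k l m q => hι (by
      have he : ∀ k l, algebraMap F E (A k l) = gi k (σ 2) * gm (σ 2) l := fun k l => by
        have := congrFun (congrFun hAmap k) l
        rw [Matrix.map_apply] at this
        rw [this, Matrix.mul_apply]
        simp [Matrix.mul_apply, Matrix.diagonal_apply]
      rw [map_mul, map_mul, he, he, he, he]; ring)
  have ha0 : a₀ ≠ 0 := fun h => by
    have := hdn (σ 0)
    rw [← ha, ← hA, h, map_zero, zero_pow hn.pos.ne'] at this
    exact zero_ne_one this
  have hlam := hH (b₀ / a₀) ⟨x, hxP, a₀, v, φ, hφ, by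
    have hx' : (x : M3) = a₀ • 1 + (b₀ - a₀) • A := by
      rw [hA', smul_inv_smul₀ hab₀]; abel
    rw [hx', hAe, smul_add, smul_smul, mul_sub, mul_one, mul_div_cancel₀ _ ha0]⟩
  have hln : (b₀ / a₀) ^ n = 1 := hι (by
    rw [map_pow, map_div₀, hA, hB, div_pow, ha, hb, hdn, hdn, div_one, map_one])
  obtain ⟨k, rfl⟩ := hn
  rw [pow_succ, pow_mul, hlam, one_pow, one_mul, div_eq_one_iff_eq ha0] at hln
  exact hab₀ (sub_eq_zero.mpr hln)

theorem diagonal_of_commute {K : Type*} [Field K] {d : Fin 3 → K} (hd : Function.Injective d)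
    {A : Matrix (Fin 3) (Fin 3) K} (h : A * Matrix.diagonal d = Matrix.diagonal d * A) :
    A = Matrix.diagonal fun i => A i i := by
  ext i j
  by_cases hij : i = j
  · subst hij; simp
  · have := congrFun (congrFun h i) j
    rw [Matrix.mul_diagonal, Matrix.diagonal_mul] at this
    rw [Matrix.diagonal_apply_ne _ hij]
    exact (mul_eq_zero.mp (show A i j * (d j - d i) = 0 by linear_combination this)).resolve_right
      (sub_ne_zero.mpr fun e => hij (hd e).symm)

/-- The centraliser of an element with distinct eigenvalues is abelian. -/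
theorem DistinctEigen.commute {x a b : GL (Fin 3) F} (hx : DistinctEigen x) (ha : a * x = x * a)
    (hb : b * x = x * b) : a * b = b * a := by
  obtain ⟨g, d, hd, hg⟩ := hx
  have key : ∀ c : GL (Fin 3) F, c * x = x * c → ∃ e : Fin 3 → E,
      ((g * toBar c * g⁻¹ : GL (Fin 3) E) : Matrix (Fin 3) (Fin 3) E) = Matrix.diagonal e := fun c hc => by
    refine ⟨_, diagonal_of_commute hd ?_⟩
    have h' : toBar c * toBar x = toBar x * toBar c := by rw [← map_mul, ← map_mul, hc]
    have h'' : g * toBar c * g⁻¹ * (g * toBar x * g⁻¹) = g * toBar x * g⁻¹ * (g * toBar c * g⁻¹) := by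
      calc g * toBar c * g⁻¹ * (g * toBar x * g⁻¹) = g * (toBar c * toBar x) * g⁻¹ := by group
        _ = g * (toBar x * toBar c) * g⁻¹ := by rw [h']
        _ = g * toBar x * g⁻¹ * (g * toBar c * g⁻¹) := by group
    rw [← hg, ← Units.val_mul (g * toBar c * g⁻¹), ← Units.val_mul (g * toBar x * g⁻¹), h'']
  obtain ⟨e₁, h₁⟩ := key a ha
  obtain ⟨e₂, h₂⟩ := key b hb
  apply toBar_injective
  rw [map_mul, map_mul]
  have : g * toBar a * g⁻¹ * (g * toBar b * g⁻¹) = g * toBar b * g⁻¹ * (g * toBar a * g⁻¹) := by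
    refine Units.ext ?_
    rw [Units.val_mul (g * toBar a * g⁻¹), Units.val_mul (g * toBar b * g⁻¹), h₁, h₂,
      Matrix.diagonal_mul_diagonal, Matrix.diagonal_mul_diagonal]
    exact congrArg _ (funext fun i => mul_comm _ _)
  have e1 : g * toBar a * g⁻¹ * (g * toBar b * g⁻¹) = g * (toBar a * toBar b) * g⁻¹ := by group
  have e2 : g * toBar b * g⁻¹ * (g * toBar a * g⁻¹) = g * (toBar b * toBar a) * g⁻¹ := by group
  rw [e1, e2] at this
  exact mul_left_cancel (mul_right_cancel this)

/-- An element moving `x` into its centraliser has its sixth power commuting with `x`. -/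
theorem DistinctEigen.commute_pow_six {x t : GL (Fin 3) F} (hx : DistinctEigen x)
    (ht : t * x * t⁻¹ * x = x * (t * x * t⁻¹)) : t ^ 6 * x = x * t ^ 6 := by
  classical
  obtain ⟨g, d, hd, hg⟩ := hx
  set T : GL (Fin 3) E := g * toBar t * g⁻¹ with hT
  set X : GL (Fin 3) E := g * toBar x * g⁻¹ with hX
  have hc : T * X * T⁻¹ * X = X * (T * X * T⁻¹) := by
    have : toBar t * toBar x * (toBar t)⁻¹ * toBar x = toBar x * (toBar t * toBar x * (toBar t)⁻¹) := by
      rw [← map_inv, ← map_mul, ← map_mul, ← map_mul, ← map_mul, ht]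
    calc T * X * T⁻¹ * X = g * (toBar t * toBar x * (toBar t)⁻¹ * toBar x) * g⁻¹ := by rw [hT, hX]; group
      _ = g * (toBar x * (toBar t * toBar x * (toBar t)⁻¹)) * g⁻¹ := by rw [this]
      _ = X * (T * X * T⁻¹) := by rw [hT, hX]; group
  obtain ⟨e, he⟩ : ∃ e : Fin 3 → E, ((T * X * T⁻¹ : GL (Fin 3) E) : Matrix (Fin 3) (Fin 3) E) = Matrix.diagonal e :=
    ⟨_, diagonal_of_commute hd (by rw [← hg, ← Units.val_mul, ← Units.val_mul, hc])⟩
  set Tm : Matrix (Fin 3) (Fin 3) E := (T : Matrix (Fin 3) (Fin 3) E) with hTm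
  have hrel : Tm * Matrix.diagonal d = Matrix.diagonal e * Tm := by
    rw [← he, ← hg, hTm, ← Units.val_mul, ← Units.val_mul, inv_mul_cancel_right]
  have hrel' : ∀ i j, Tm i j * d j = e i * Tm i j := fun i j => by
    have := congrFun (congrFun hrel i) j
    rwa [Matrix.mul_diagonal, Matrix.diagonal_mul] at this
  have hrow : ∀ i, ∃ j, Tm i j ≠ 0 := fun i => by
    by_contra h
    push Not at h
    exact Matrix.GeneralLinearGroup.det_ne_zero T (Matrix.det_eq_zero_of_row_eq_zero i h)
  choose σ hσ using hrow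
  have huni : ∀ i j, Tm i j ≠ 0 → σ i = j := fun i j h => hd (by
    have h1 := hrel' i j
    have h2 := hrel' i (σ i)
    rw [mul_comm (Tm i j)] at h1
    rw [mul_comm (Tm i _)] at h2
    rw [mul_right_cancel₀ h h1, mul_right_cancel₀ (hσ i) h2])
  have hinj : Function.Injective σ := by
    intro i k hik
    by_contra hne
    have hdet : Tm.det ≠ 0 := Matrix.GeneralLinearGroup.det_ne_zero T
    refine hdet (Matrix.exists_mulVec_eq_zero_iff.mp ?_ |> fun h => by rw [← Matrix.det_transpose]; exact h)
    refine ⟨Function.update (Pi.single i (Tm k (σ k))) k (-(Tm i (σ i))), fun h => ?_, ?_⟩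
    · have := congrFun h k
      simp at this
      exact hσ i this
    · funext j
      rw [Matrix.mulVec, dotProduct, Finset.sum_eq_add i k hne]
      · simp only [Matrix.transpose_apply, Function.update_of_ne hne, Pi.single_eq_same, Function.update_self,
          Pi.zero_apply]
        by_cases hj : j = σ i
        · subst hj; rw [hik]; ring
        · rw [not_not.mp (mt (huni i j) (Ne.symm hj)),
            not_not.mp (mt (huni k j) fun e => hj (by rw [hik, e]))]
          ring
      · intro l _ hl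
        simp [Function.update_of_ne hl.2, Pi.single_eq_of_ne hl.1]
      · simp
      · simp
  have hσ6 : ∀ s : Fin 3 → Fin 3, Function.Injective s → ∀ i, s (s (s (s (s (s i))))) = i := by decide
  have hmono : ∀ f : Fin 3 → E, Tm * Matrix.diagonal f = Matrix.diagonal (f ∘ σ) * Tm := fun f => by
    ext i j
    rw [Matrix.mul_diagonal, Matrix.diagonal_mul]
    by_cases h : Tm i j = 0
    · simp [h]
    · rw [Function.comp_apply, huni i j h]; ring
  have key : (T ^ 6 * X : GL (Fin 3) E) = X * T ^ 6 := by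
    refine Units.ext ?_
    rw [Units.val_mul (T ^ 6) X, Units.val_mul X (T ^ 6), Units.val_pow_eq_pow_val, ← hTm, hg]
    have em : ∀ (m : ℕ) (f : Fin 3 → E),
        Tm ^ m * Matrix.diagonal f = Matrix.diagonal (f ∘ σ^[m]) * Tm ^ m := by
      intro m
      induction m with
      | zero => intro f; simp
      | succ k ih =>
        intro f
        rw [pow_succ, mul_assoc, hmono, ← mul_assoc, ih, mul_assoc, Function.comp_assoc, ← Function.iterate_succ']
    rw [em, show d ∘ σ^[6] = d from funext fun i => congrArg d (hσ6 σ hinj i)]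
  apply toBar_injective
  rw [map_mul, map_mul, map_pow]
  rw [hT, hX, conj_pow] at key
  have e1 : g * toBar t ^ 6 * g⁻¹ * (g * toBar x * g⁻¹) = g * (toBar t ^ 6 * toBar x) * g⁻¹ := by group
  have e2 : g * toBar x * g⁻¹ * (g * toBar t ^ 6 * g⁻¹) = g * (toBar x * toBar t ^ 6) * g⁻¹ := by group
  rw [e1, e2] at key
  exact mul_left_cancel (mul_right_cancel key)

end Cfsg.Agent.Linear.Mitchell
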