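import Cfsg.Agent.Linear.Mitchell.HomologyPair

/-!
A perfect irreducible subgroup of `SL₃` without transvections has no homology with ratio of order
greater than two.
-/

set_option autoImplicit false

namespace Cfsg.Agent.Linear.Mitchell.Homology

open scoped MatrixGroups Matrix
open Cfsg.Geo

variable {F : Type*} [Field F] {P : Subgroup (GL (Fin 3) F)}

local notation "M3" => Matrix (Fin 3) (Fin 3) F

theorem IsPr.left_or_right {X : M3} (hX : IsPr X) {M N : M3} (h : M * X * N = 0) :
    M * X = 0 ∨ X * N = 0 := by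
  obtain ⟨x, ξ, -, rfl⟩ := hX
  rw [Matrix.mul_vecMulVec, Matrix.vecMulVec_mul, Matrix.vecMulVec_eq_zero] at h
  rw [Matrix.mul_vecMulVec, Matrix.vecMulVec_mul, Matrix.vecMulVec_eq_zero, Matrix.vecMulVec_eq_zero]
  tauto

theorem IsPr.hm_inv {X : M3} (hX : IsPr X) {μ : F} (h0 : μ ≠ 0) {k : GL (Fin 3) F}
    (hk : (k : M3) = hm μ X) : ((k⁻¹ : GL (Fin 3) F) : M3) = hm μ⁻¹ X := by
  apply Units.inv_eq_of_mul_eq_one_right
  rw [hk, hm_mul hX.idem, mul_inv_cancel₀ h0, hm_one]

theorem cj_of_hm {A Y : M3} (hA : IsPr A) {μ : F} (h0 : μ ≠ 0) {g : GL (Fin 3) F}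
    (hg : (g : M3) = hm μ A) : cj g Y = hm μ A * Y * hm μ⁻¹ A := by
  rw [Homology.cj, hg, hA.hm_inv h0 hg]

theorem Hm.inv_iff {μ : F} {E : M3} : Hm P μ⁻¹ E ↔ Hm P μ E :=
  ⟨fun h => by simpa using h.inv, Hm.inv⟩

/-- The third member of a triangle. -/
theorem orth_third {A B : M3} (hA : IsPr A) (hB : IsPr B) (ho : Orth A B) :
    Orth A (1 - A - B) ∧ Orth B (1 - A - B) := by
  refine ⟨⟨?_, ?_⟩, ⟨?_, ?_⟩⟩ <;>
    simp only [mul_sub, sub_mul, mul_one, one_mul, hA.idem, hB.idem, ho.1, ho.2] <;> abel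

theorem trace_triangle {A B Z : M3} (hZ : IsPr Z) :
    (A * Z).trace + (B * Z).trace + ((1 - A - B) * Z).trace = 1 := by
  simp only [sub_mul, one_mul, Matrix.trace_sub, hZ.trace]
  ring

variable [Finite F]

/-- If two homologies of the given ratio do not commute, the ratio has order at most five. -/
theorem no_six (p : ℕ) [Fact p.Prime] [CharP F p] (hp : p ≠ 2) (hS : Setting P)
    (hT : NoTransvection P) {μ : F} (hn : 6 ≤ orderOf μ) {E : M3} (h : Hm P μ E) : False := by
  have h2 : (2 : F) ≠ 0 := Dickson.two_ne_zero_of_char p hp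
  have hμ2 : μ ^ 2 ≠ 1 := fun e => by
    have := Nat.le_of_dvd two_pos (orderOf_dvd_of_pow_eq_one e); omega
  refine no_orth_orbit hS h2 h.1 fun g hg => or_iff_not_imp_left.mpr fun hne => ?_
  refine (pair_cases hS hT hμ2 h (h.cj (le_gam hg)) (Ne.symm hne)).resolve_right fun ⟨a, b⟩ => ?_
  have := (pair_plane p hp hS hT (by omega) h (h.cj (le_gam hg)) a b).1
  omega

theorem no_five (p : ℕ) [Fact p.Prime] [CharP F p] (hp : p ≠ 2) (hS : Setting P)
    (hT : NoTransvection P) {μ : F} (hn : orderOf μ = 5) {E : M3} (h : Hm P μ E) : False := by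
  have h2 : (2 : F) ≠ 0 := Dickson.two_ne_zero_of_char p hp
  have hμ2 : μ ^ 2 ≠ 1 := fun e => by
    have := Nat.le_of_dvd two_pos (orderOf_dvd_of_pow_eq_one e); omega
  refine no_orth_orbit hS h2 h.1 fun g hg => or_iff_not_imp_left.mpr fun hne => ?_
  refine (pair_cases hS hT hμ2 h (h.cj (le_gam hg)) (Ne.symm hne)).resolve_right fun ⟨a, b⟩ => ?_
  obtain ⟨ζ, hζ, hF⟩ := (pair_plane p hp hS hT (by omega) h (h.cj (le_gam hg)) a b).2.1 hn
  exact no_six p hp hS hT (by omega) hF

theorem no_four (p : ℕ) [Fact p.Prime] [CharP F p] (hp : p ≠ 2) (hS : Setting P)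
    (hT : NoTransvection P) {μ : F} (hn : orderOf μ = 4) {E : M3} (hE : Hm P μ E) : False := by
  have h2 : (2 : F) ≠ 0 := Dickson.two_ne_zero_of_char p hp
  have hμ2 : μ ^ 2 ≠ 1 := fun e => by
    have := Nat.le_of_dvd two_pos (orderOf_dvd_of_pow_eq_one e); omega
  have hsq : ∀ x : F, orderOf x = 4 → x ^ 2 = -1 := fun x hx => by
    have h4 : (x ^ 2) ^ 2 = 1 := by
      rw [← pow_mul, show 2 * 2 = orderOf x by omega, pow_orderOf_eq_one]
    refine (sq_eq_one_iff.mp h4).resolve_left fun e => ?_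
    have := Nat.le_of_dvd two_pos (orderOf_dvd_of_pow_eq_one e); omega
  have third : ∀ {A B : M3}, Hm P μ A → Hm P μ B → Orth A B → Hm P μ (1 - A - B) :=
    fun hA hB ho => Hm.inv_iff.mp (hA.compl hB ho)
  have axis : ∀ {X Y : M3}, Hm P μ X → Hm P μ Y → (X * Y).trace ≠ 0 → (X * Y).trace ≠ 1 →
      4 * (1 - (X * Y).trace) ^ 2 = 1 ∧ Hm P μ (axisPr X Y) := by
    intro X Y hX hY a b
    obtain ⟨e, ζ, hζ, hF⟩ := (pair_plane p hp hS hT (by omega) hX hY a b).2.2.1 hn
    refine ⟨e, ?_⟩
    rcases eq_or_eq_neg_of_sq_eq_sq ζ μ ((hsq ζ hζ).trans (hsq μ hn).symm) with rfl | rfl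
    · exact hF
    · refine Hm.inv_iff.mp ?_
      rwa [inv_eq_of_mul_eq_one_right (show μ * -μ = 1 by linear_combination -(hsq μ hn))]
  -- the invariant
  have val : ∀ {X Y : M3}, Hm P μ X → Hm P μ Y → X ≠ Y → Orth X Y ∨ 2 * (X * Y).trace = 1 := by
    intro X Y hX hY hne
    refine (pair_cases hS hT hμ2 hX hY hne).imp_right fun ⟨a, b⟩ => ?_
    obtain ⟨e, hF⟩ := axis hX hY a b
    obtain ⟨o1, o2⟩ := orth_axisPr hX.1 hY.1 b
    have h' := third hX hF o1
    have hc : (Y * (1 - X - axisPr X Y)).trace = 1 - (X * Y).trace := by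
      simp only [mul_sub, mul_one, Matrix.trace_sub, hY.1.trace, o2.trace, Matrix.trace_mul_comm Y X,
        sub_zero]
    have hne' : Y ≠ 1 - X - axisPr X Y := fun e' => by
      rw [← e', hY.1.idem, hY.1.trace] at hc
      exact a (by linear_combination hc)
    rcases pair_cases hS hT hμ2 hY h' hne' with o | ⟨a', b'⟩
    · rw [o.trace] at hc
      exact absurd (by linear_combination hc) b
    · obtain ⟨e', -⟩ := axis hY h' a' b'
      rw [hc] at e'
      have : 4 * (2 * (X * Y).trace - 1) = 0 := by linear_combination e' - e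
      have h4 : (4 : F) ≠ 0 := by
        rw [show (4 : F) = 2 * 2 by norm_num]; exact mul_ne_zero h2 h2
      exact sub_eq_zero.mp ((mul_eq_zero.mp this).resolve_left h4)
  -- exactly one member of a triangle is orthogonal to an outsider
  have one_zero : ∀ {A B Z : M3}, Hm P μ A → Hm P μ B → Orth A B → Hm P μ Z →
      Z ≠ A → Z ≠ B → Z ≠ 1 - A - B →
      (Orth A Z ∧ 2 * (B * Z).trace = 1 ∧ 2 * ((1 - A - B) * Z).trace = 1) ∨
      (Orth B Z ∧ 2 * (A * Z).trace = 1 ∧ 2 * ((1 - A - B) * Z).trace = 1) ∨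
      (Orth (1 - A - B) Z ∧ 2 * (A * Z).trace = 1 ∧ 2 * (B * Z).trace = 1) := by
    intro A B Z hA hB ho hZ na nb nc
    have hs := trace_triangle (A := A) (B := B) hZ.1
    rcases val hA hZ (Ne.symm na) with oa | oa <;> rcases val hB hZ (Ne.symm nb) with ob | ob <;>
      rcases val (third hA hB ho) hZ (Ne.symm nc) with oc | oc
    · rw [oa.trace, ob.trace, oc.trace] at hs; exact absurd hs (by simp)
    · rw [oa.trace, ob.trace] at hs
      exact absurd (show (1 : F) = 0 by linear_combination oc - 2 * hs) one_ne_zero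
    · rw [oa.trace, oc.trace] at hs
      exact absurd (show (1 : F) = 0 by linear_combination ob - 2 * hs) one_ne_zero
    · exact Or.inl ⟨oa, ob, oc⟩
    · rw [ob.trace, oc.trace] at hs
      exact absurd (show (1 : F) = 0 by linear_combination oa - 2 * hs) one_ne_zero
    · exact Or.inr (Or.inl ⟨ob, oa, oc⟩)
    · exact Or.inr (Or.inr ⟨oc, oa, ob⟩)
    · exact absurd (show (1 : F) = 0 by linear_combination 2 * hs - oa - ob - oc) one_ne_zero
  -- outsiders orthogonal to different members
  have quarter : ∀ {A B C X Y : M3}, IsPr C → A + B + C = 1 → Orth A X → Orth B Y → Hm P μ X →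
      Hm P μ Y → 2 * (C * X).trace = 1 → 2 * (C * Y).trace = 1 → X ≠ Y → False := by
    intro A B C X Y hC hs oX oY hX hY cX cY hne
    have eX : (B + C) * X * (B + C) = X := by
      rw [show B + C = 1 - A by rw [← hs]; abel]
      simp only [sub_mul, mul_sub, one_mul, mul_one, oX.1, oX.2, zero_mul, sub_zero]
    have eY : (B + C) * Y * (B + C) = (C * Y).trace • C := by
      simp only [add_mul, mul_add, oY.1, oY.2, mul_assoc, mul_zero, zero_add, zero_mul]
      rw [← mul_assoc]
      exact hC.sandwich Y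
    have e : (X * Y).trace = (C * Y).trace * (C * X).trace := by
      conv_lhs => rw [← eX, mul_assoc, mul_assoc, Matrix.trace_mul_comm, mul_assoc, mul_assoc,
        ← mul_assoc (B + C) Y, eY, mul_smul_comm, Matrix.trace_smul, smul_eq_mul,
        Matrix.trace_mul_comm X C]
    have e4 : 4 * (X * Y).trace = 1 := by linear_combination 4 * e + 2 * (C * X).trace * cY + cX
    rcases val hX hY hne with o | o
    · rw [o.trace, mul_zero] at e4; exact zero_ne_one e4
    · exact one_ne_zero (show (1 : F) = 0 by linear_combination e4 - 2 * o)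
  -- a pair in general position
  obtain ⟨g, hg, hne, hno⟩ : ∃ g ∈ P, cj g E ≠ E ∧ ¬ Orth E (cj g E) := by
    by_contra hcon
    push Not at hcon
    exact no_orth_orbit hS h2 hE.1 fun g hg => or_iff_not_imp_left.mpr (hcon g hg)
  set E' := cj g E
  have hE' : Hm P μ E' := hE.cj (le_gam hg)
  obtain ⟨hc0, hc1⟩ := (pair_cases hS hT hμ2 hE hE' (Ne.symm hne)).resolve_left hno
  obtain ⟨-, hA⟩ := axis hE hE' hc0 hc1
  obtain ⟨o1, o2⟩ := orth_axisPr hE.1 hE'.1 hc1
  set A := axisPr E E'
  have hC := third hA hE o1.symm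
  have hX1 := (val hE hE' (Ne.symm hne)).resolve_left hno
  have hX2 : 2 * ((1 - A - E) * E').trace = 1 := by
    simp only [sub_mul, one_mul, Matrix.trace_sub, hE'.1.trace, o2.symm.trace]
    linear_combination -hX1
  obtain ⟨ot1, ot2⟩ := orth_third hA.1 hE.1 o1.symm
  -- every member is orthogonal to the axis
  have star : ∀ Z : M3, Hm P μ Z → Z = A ∨ Orth A Z := by
    intro Z hZ
    by_cases na : Z = A
    · exact Or.inl na
    by_cases nb : Z = E
    · exact Or.inr (nb ▸ o1.symm)
    by_cases nc : Z = 1 - A - E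
    · exact Or.inr (nc ▸ ot1)
    right
    rcases one_zero hA hE o1.symm hZ na nb nc with ⟨o, -, -⟩ | ⟨o, -, c⟩ | ⟨o, -, c⟩
    · exact o
    · exact (quarter (A := A) (B := E) hC.1 (by abel) o2.symm o hE' hZ hX2 c
        fun e => by rw [← e] at o; exact hno o).elim
    · exact (quarter (A := A) (B := 1 - A - E) hE.1 (by abel) o2.symm o hE' hZ hX1 c
        fun e => by
          rw [← e] at o
          rw [o.trace, mul_zero] at hX2
          exact zero_ne_one hX2).elim
  exact no_orth_orbit hS h2 hA.1 fun k hk => star _ (hA.cj (le_gam hk))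

omit [Finite F] in
theorem sum_cj_right {A Y : M3} (hA : IsPr A) {μ : F} (h0 : μ ≠ 0) (hω : μ ^ 2 + μ + 1 = 0)
    {g : GL (Fin 3) F} (hg : (g : M3) = hm μ A) :
    Y + μ ^ 2 • cj g Y + μ • cj (g * g) Y = (3 : F) • (A * Y - A * Y * A) := by
  have hgg : ((g * g : GL (Fin 3) F) : M3) = hm (μ * μ) A := by rw [Units.val_mul, hg, hm_mul hA.idem]
  have hi : μ⁻¹ = μ ^ 2 := inv_eq_of_mul_eq_one_right (by linear_combination (μ - 1) * hω)
  have hi2 : (μ * μ)⁻¹ = μ := inv_eq_of_mul_eq_one_right (by linear_combination (μ - 1) * hω)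
  rw [cj_of_hm hA h0 hg, cj_of_hm hA (mul_ne_zero h0 h0) hgg, hi, hi2]
  simp only [hm, add_mul, mul_add, one_mul, mul_one, smul_mul_assoc, mul_smul_comm, smul_add, smul_sub,
    smul_smul]
  match_scalars <;> grobner

omit [Finite F] in
theorem sum_cj_left {A Y : M3} (hA : IsPr A) {μ : F} (h0 : μ ≠ 0) (hω : μ ^ 2 + μ + 1 = 0)
    {g : GL (Fin 3) F} (hg : (g : M3) = hm μ A) :
    Y + μ • cj g Y + μ ^ 2 • cj (g * g) Y = (3 : F) • (Y * A - A * Y * A) := by
  have hgg : ((g * g : GL (Fin 3) F) : M3) = hm (μ * μ) A := by rw [Units.val_mul, hg, hm_mul hA.idem]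
  have hi : μ⁻¹ = μ ^ 2 := inv_eq_of_mul_eq_one_right (by linear_combination (μ - 1) * hω)
  have hi2 : (μ * μ)⁻¹ = μ := inv_eq_of_mul_eq_one_right (by linear_combination (μ - 1) * hω)
  rw [cj_of_hm hA h0 hg, cj_of_hm hA (mul_ne_zero h0 h0) hgg, hi, hi2]
  simp only [hm, add_mul, mul_add, one_mul, mul_one, smul_mul_assoc, mul_smul_comm, smul_add, smul_sub,
    smul_smul]
  match_scalars <;> grobner

omit [Finite F] in
theorem cj_add (g : GL (Fin 3) F) (X Y : M3) : cj g (X + Y) = cj g X + cj g Y := by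
  simp [Homology.cj, mul_add, add_mul]

omit [Finite F] in
theorem cj_smul (g : GL (Fin 3) F) (c : F) (X : M3) : cj g (c • X) = c • cj g X := by
  simp [Homology.cj]

omit [Finite F] in
/-- The images of a function on triangles. -/
theorem image_cj_eq_self {g : GL (Fin 3) F} {C : Set M3} (h : cj g '' C = C) (n : ℕ) :
    cj (g ^ n) '' C = C := by
  induction n with
  | zero => simp [cj_one, show cj (1 : GL (Fin 3) F) = id from funext cj_one]
  | succ n ih =>
    have : cj (g ^ (n + 1)) = cj (g ^ n) ∘ cj g := funext fun X => by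
      rw [Function.comp, cj_cj, pow_succ]
    rw [this, Set.image_comp, h, ih]

theorem no_three (p : ℕ) [Fact p.Prime] [CharP F p] (hp : p ≠ 2) (hS : Setting P)
    (hT : NoTransvection P) {μ : F} (hn : orderOf μ = 3) {E : M3} (hE : Hm P μ E) : False := by
  classical
  have h2 : (2 : F) ≠ 0 := Dickson.two_ne_zero_of_char p hp
  have h0 := hE.ne_zero
  have hμ2 : μ ^ 2 ≠ 1 := fun e => by
    have := Nat.le_of_dvd two_pos (orderOf_dvd_of_pow_eq_one e); omega
  have hμ3 : μ ^ 3 = 1 := hn ▸ pow_orderOf_eq_one μ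
  have hω : μ ^ 2 + μ + 1 = 0 := by
    refine (mul_eq_zero.mp (show (μ - 1) * (μ ^ 2 + μ + 1) = 0 by linear_combination hμ3)).resolve_left
      fun e => hμ2 (by linear_combination (μ + 1) * e)
  have h3 : (3 : F) ≠ 0 := fun e => hμ2 (by
    have e1 : (μ - 1) ^ 2 = 0 := by linear_combination hω - μ * e
    rw [sub_eq_zero.mp (eq_zero_of_pow_eq_zero e1)]
    ring)
  have third : ∀ {A B : M3}, Hm P μ A → Hm P μ B → Orth A B → Hm P μ (1 - A - B) :=
    fun hA hB ho => Hm.inv_iff.mp (hA.compl hB ho)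
  have pair : ∀ {X Y : M3}, Hm P μ X → Hm P μ Y → X ≠ Y →
      Orth X Y ∨ (3 * (X * Y).trace = 1 ∧ (X * Y).trace ≠ 1 ∧ Hm P (-1) (axisPr X Y)) := by
    intro X Y hX hY hne
    refine (pair_cases hS hT hμ2 hX hY hne).imp_right fun ⟨a, b⟩ => ?_
    rcases (pair_plane p hp hS hT (by omega) hX hY a b).2.2.2 hn with ⟨e, hF⟩ | ⟨ζ, hζ, hF⟩
    · exact ⟨e, b, hF⟩
    · exact (no_six p hp hS hT (by omega) hF).elim
  have hfin : {Z : M3 | Hm P μ Z}.Finite := Set.toFinite _
  have hconj : ∀ g ∈ P, ∀ X ∈ {Z : M3 | Hm P μ Z}, cj g X ∈ {Z : M3 | Hm P μ Z} :=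
    fun g hg X hX => Hm.cj hX (le_gam hg)
  by_cases hcomm : ∃ A B : M3, Hm P μ A ∧ Hm P μ B ∧ Orth A B
  · obtain ⟨A, B, hA, hB, hAB⟩ := hcomm
    set C := 1 - A - B
    have hC : Hm P μ C := third hA hB hAB
    -- an outsider has the value 1/3 on each member
    have thirds : ∀ {A B Z : M3}, Hm P μ A → Hm P μ B → Orth A B → Hm P μ Z → Z ≠ A → Z ≠ B →
        Z ≠ 1 - A - B →
        3 * (A * Z).trace = 1 ∧ 3 * (B * Z).trace = 1 ∧ 3 * ((1 - A - B) * Z).trace = 1 := by
      intro A B Z hA hB ho hZ na nb nc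
      have hs := trace_triangle (A := A) (B := B) hZ.1
      rcases pair hA hZ (Ne.symm na) with oa | ⟨oa, -⟩ <;>
        rcases pair hB hZ (Ne.symm nb) with ob | ⟨ob, -⟩ <;>
        rcases pair (third hA hB ho) hZ (Ne.symm nc) with oc | ⟨oc, -⟩
      · rw [oa.trace, ob.trace, oc.trace] at hs; exact absurd hs (by simp)
      · rw [oa.trace, ob.trace] at hs
        exact absurd (show (2 : F) = 0 by linear_combination oc - 3 * hs) h2
      · rw [oa.trace, oc.trace] at hs
        exact absurd (show (2 : F) = 0 by linear_combination ob - 3 * hs) h2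
      · rw [oa.trace] at hs
        exact absurd (show (1 : F) = 0 by linear_combination oc + ob - 3 * hs) one_ne_zero
      · rw [ob.trace, oc.trace] at hs
        exact absurd (show (2 : F) = 0 by linear_combination oa - 3 * hs) h2
      · rw [ob.trace] at hs
        exact absurd (show (1 : F) = 0 by linear_combination oa + oc - 3 * hs) one_ne_zero
      · rw [oc.trace] at hs
        exact absurd (show (1 : F) = 0 by linear_combination oa + ob - 3 * hs) one_ne_zero
      · exact ⟨oa, ob, oc⟩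
    have not_orth : ∀ {X Y : M3}, 3 * (X * Y).trace = 1 → ¬ Orth X Y := fun e o => by
      rw [o.trace, mul_zero] at e; exact zero_ne_one e
    let tri : M3 → Set M3 := fun X => {Z | Hm P μ Z ∧ (Z = X ∨ Orth X Z)}
    have tri_eq : ∀ {X Y : M3}, Hm P μ X → Hm P μ Y → Orth X Y → tri X = {X, Y, 1 - X - Y} := by
      intro X Y hX hY ho
      ext Z
      simp only [tri, Set.mem_setOf_eq, Set.mem_insert_iff, Set.mem_singleton_iff]
      constructor
      · rintro ⟨hZ, h | h⟩
        · exact Or.inl h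
        · by_contra hcon
          push Not at hcon
          exact not_orth (thirds hX hY ho hZ hcon.1 hcon.2.1 hcon.2.2).1 h
      · rintro (rfl | rfl | rfl)
        · exact ⟨hX, Or.inl rfl⟩
        · exact ⟨hY, Or.inr ho⟩
        · exact ⟨third hX hY ho, Or.inr (orth_third hX.1 hY.1 ho).1⟩
    have tri_congr : ∀ {X Y : M3}, Hm P μ X → Hm P μ Y → Orth X Y → tri Y = tri X := by
      intro X Y hX hY ho
      rw [tri_eq hX hY ho, tri_eq hY hX ho.symm, Set.insert_comm Y X,
        show 1 - Y - X = 1 - X - Y by abel]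
    have tri_mem : ∀ {X Y : M3}, Hm P μ X → Y ∈ tri X → tri Y = tri X := by
      rintro X Y hX ⟨hY, rfl | ho⟩
      · rfl
      · exact tri_congr hX hY ho
    have tri_cj : ∀ {g : GL (Fin 3) F}, g ∈ gam P → ∀ X : M3, cj g '' tri X = tri (cj g X) := by
      intro g hg X
      ext Z
      constructor
      · rintro ⟨W, ⟨hW, h⟩, rfl⟩
        exact ⟨hW.cj hg, h.imp (congrArg (cj g)) fun o => o.cj g⟩
      · rintro ⟨hZ, h⟩
        have e : cj g (cj g⁻¹ Z) = Z := by rw [cj_cj, mul_inv_cancel, cj_one]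
        refine ⟨cj g⁻¹ Z, ⟨hZ.cj ((gam P).inv_mem hg), ?_⟩, e⟩
        rcases h with rfl | o
        · exact Or.inl (by rw [cj_cj, inv_mul_cancel, cj_one])
        · exact Or.inr (by simpa [cj_cj, cj_one] using o.cj g⁻¹)
    have tri_card : (tri A).ncard ≤ 4 ∧ (tri A).Finite := by
      rw [tri_eq hA hB hAB]
      exact ⟨((Set.ncard_insert_le _ _).trans (Nat.succ_le_succ ((Set.ncard_insert_le _ _).trans
        (by rw [Set.ncard_singleton])))).trans (by norm_num), Set.toFinite _⟩
    -- an outsider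
    obtain ⟨X, hX, hXout⟩ : ∃ X, Hm P μ X ∧ X ∉ tri A := by
      by_contra hcon
      push Not at hcon
      have e : {Z : M3 | Hm P μ Z} = tri A := Set.ext fun Z => ⟨hcon Z, fun hZ => hZ.1⟩
      exact no_small hS h2 hconj hfin (e ▸ tri_card.1) hA hA.1
    have out : ∀ {Z : M3}, Hm P μ Z → Z ∉ tri A →
        3 * (A * Z).trace = 1 ∧ 3 * (B * Z).trace = 1 ∧ 3 * (C * Z).trace = 1 := by
      intro Z hZ hZo
      refine thirds hA hB hAB hZ ?_ ?_ ?_ <;> rintro rfl <;> apply hZo <;> rw [tri_eq hA hB hAB] <;>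
        simp [C]
    obtain ⟨xA, xB, -⟩ := out hX hXout
    obtain ⟨gA, hgA, hgAe⟩ := id hA.2
    obtain ⟨gB, hgB, hgBe⟩ := id hB.2
    set k := gA⁻¹ * gB
    have hk : k ∈ gam P := (gam P).mul_mem ((gam P).inv_mem hgA) hgB
    have hi : μ⁻¹ = μ ^ 2 := inv_eq_of_mul_eq_one_right (by linear_combination hμ3)
    have hiA : ((gA⁻¹ : GL (Fin 3) F) : M3) = hm (μ ^ 2) A := by rw [hA.1.hm_inv h0 hgAe, hi]
    have hiB : ((gB⁻¹ : GL (Fin 3) F) : M3) = hm (μ ^ 2) B := by rw [hB.1.hm_inv h0 hgBe, hi]
    -- the conjugate of `X` by `k` lies in the triangle of `X`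
    have hkX : Orth X (cj k X) := by
      have hXk := hX.cj hk
      have e : (X * cj k X).trace = 0 := by
        have e1 : (k : M3) = 1 + (μ ^ 2 - 1) • A + (μ - 1) • B := by
          rw [Units.val_mul, hiA, hgBe, hm, hm]
          simp only [add_mul, mul_add, one_mul, mul_one, smul_mul_assoc, mul_smul_comm, hAB.1, smul_zero]
          abel
        have e2 : X * cj k X = (X * (k : M3) * X) * ((k⁻¹ : GL (Fin 3) F) : M3) := by
          simp only [Homology.cj, mul_assoc]
        rw [e2, hX.1.sandwich, smul_mul_assoc, Matrix.trace_smul, smul_eq_mul]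
        refine mul_eq_zero_of_left ?_ _
        rw [e1]
        simp only [mul_add, mul_smul_comm, mul_one, Matrix.trace_add, Matrix.trace_smul, smul_eq_mul,
          hX.1.trace, Matrix.trace_mul_comm X A, Matrix.trace_mul_comm X B]
        refine (mul_eq_zero.mp (?_ : (3 : F) * _ = 0)).resolve_left h3
        linear_combination (μ ^ 2 - 1) * xA + (μ - 1) * xB + hω
      refine (pair hX hXk fun e' => ?_).resolve_right fun h => ?_
      · rw [← e', hX.1.idem, hX.1.trace] at e; exact one_ne_zero e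
      · rw [e, mul_zero] at h; exact zero_ne_one h.1
    have hkT : cj k '' tri X = tri X := by rw [tri_cj hk, tri_congr hX (hX.cj hk) hkX]
    have hXn : ∀ n : ℕ, Hm P μ (cj (gA ^ n) X) := fun n => hX.cj ((gam P).pow_mem hgA n)
    -- every outsider belongs to the triangle of some conjugate of `X`
    have hcomm' : Commute gA gB := Units.ext (by
      rw [Units.val_mul, Units.val_mul, hgAe, hgBe, hm, hm]
      simp only [add_mul, mul_add, one_mul, mul_one, smul_mul_assoc, mul_smul_comm, hAB.1, hAB.2]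
      module)
    have hgA3 : gA ^ 3 = 1 := Units.ext (by
      rw [Units.val_pow_eq_pow_val, hgAe, pow_three, hm_mul hA.1.idem, hm_mul hA.1.idem, Units.val_one,
        show μ * (μ * μ) = 1 by linear_combination hμ3, hm_one])
    have cover : ∀ {Z : M3}, Hm P μ Z → Z ∉ tri A → ∃ n < 3, tri Z = tri (cj (gA ^ n) X) := by
      intro Z hZ hZo
      obtain ⟨zA, zB, -⟩ := out hZ hZo
      obtain ⟨i, j, hij⟩ : ∃ i j : ℕ, ¬ 3 * (cj (gB ^ j * gA ^ i) X * Z).trace = 1 := by
        by_contra hcon
        push Not at hcon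
        have inner : ∀ j : ℕ, (cj (gB ^ j) (A * X - A * X * A) * Z).trace = 0 := by
          intro j
          have e := congrArg (fun Y => (cj (gB ^ j) Y * Z).trace) (sum_cj_right (Y := X) hA.1 h0 hω hgAe)
          simp only [cj_add, cj_smul, cj_cj, add_mul, smul_mul_assoc, Matrix.trace_add, Matrix.trace_smul,
            smul_eq_mul] at e
          have c0 := hcon 0 j
          have c1 := hcon 1 j
          have c2 := hcon 2 j
          rw [pow_zero, mul_one] at c0
          rw [pow_one] at c1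
          rw [pow_two] at c2
          refine (mul_eq_zero.mp (?_ : (3 * 3 : F) * _ = 0)).resolve_left (mul_ne_zero h3 h3)
          linear_combination -3 * e + c0 + μ ^ 2 * c1 + μ * c2 + hω
        have e := congrArg (fun Y => (Y * Z).trace) (sum_cj_left (Y := A * X - A * X * A) hB.1 h0 hω hgBe)
        simp only [add_mul, smul_mul_assoc, Matrix.trace_add, Matrix.trace_smul, smul_eq_mul] at e
        have i0 := inner 0
        have i1 := inner 1
        have i2 := inner 2
        rw [pow_zero, cj_one] at i0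
        rw [pow_one] at i1
        rw [pow_two] at i2
        rw [i0, i1, i2, mul_zero, mul_zero, zero_add, zero_add, eq_comm, mul_eq_zero, or_iff_right h3] at e
        have e' : (A * X - A * X * A) * B - B * (A * X - A * X * A) * B = A * X * B := by
          simp only [mul_sub, sub_mul, mul_assoc, hAB.1, mul_zero, sub_zero]
          simp only [← mul_assoc, hAB.2, zero_mul, sub_zero]
        rw [e'] at e
        have e'' : A * X * (B * Z * A) = 0 := by
          have := hA.1.sandwich (X * B * Z)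
          rw [show A * (X * B * Z) = A * X * B * Z by simp only [mul_assoc], e, zero_smul] at this
          simpa [mul_assoc] using this
        rcases hX.1.left_or_right e'' with h | h
        · rw [h, Matrix.trace_zero, mul_zero] at xA; exact zero_ne_one xA
        · rw [show X * (B * Z * A) = X * B * (Z * A) by simp only [mul_assoc]] at h
          rcases hB.1.left_or_right h with h | h
          · rw [Matrix.trace_mul_comm, h, Matrix.trace_zero, mul_zero] at xB; exact zero_ne_one xB
          · rw [← mul_assoc] at h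
            rcases hZ.1.left_or_right h with h | h
            · rw [h, Matrix.trace_zero, mul_zero] at zB; exact zero_ne_one zB
            · rw [Matrix.trace_mul_comm, h, Matrix.trace_zero, mul_zero] at zA; exact zero_ne_one zA
      have hg : gB ^ j * gA ^ i ∈ gam P :=
        (gam P).mul_mem ((gam P).pow_mem hgB j) ((gam P).pow_mem hgA i)
      have hY := hX.cj hg
      have hZY : Z ∈ tri (cj (gB ^ j * gA ^ i) X) := ⟨hZ, by
        by_cases h : Z = cj (gB ^ j * gA ^ i) X
        · exact Or.inl h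
        · exact Or.inr ((pair hY hZ (Ne.symm h)).resolve_right fun h' => hij h'.1)⟩
      refine ⟨(i + j) % 3, Nat.mod_lt _ (by norm_num), ?_⟩
      have e : gB ^ j * gA ^ i = gA ^ ((i + j) % 3) * k ^ j := by
        rw [← pow_eq_pow_mod (i + j) hgA3, (hcomm'.inv_left.mul_pow j), ← mul_assoc,
          inv_pow, pow_add, mul_inv_cancel_right]
        exact ((hcomm'.pow_pow i j).eq).symm
      rw [tri_mem hY hZY, ← tri_cj hg, e, show cj (gA ^ ((i + j) % 3) * k ^ j) =
          cj (gA ^ ((i + j) % 3)) ∘ cj (k ^ j) from funext fun Y => (cj_cj _ _ Y).symm,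
        Set.image_comp, image_cj_eq_self hkT, tri_cj ((gam P).pow_mem hgA _)]
    -- four triangles
    set 𝒯 : Set (Set M3) := tri '' {Z : M3 | Hm P μ Z}
    have h𝒯 : 𝒯 ⊆ {tri A, tri (cj (gA ^ 0) X), tri (cj (gA ^ 1) X), tri (cj (gA ^ 2) X)} := by
      rintro _ ⟨Z, hZ, rfl⟩
      by_cases hZo : Z ∈ tri A
      · exact Or.inl (tri_mem hA hZo)
      · obtain ⟨n, hn', e⟩ := cover hZ hZo
        rw [e]
        interval_cases n <;> simp
    have h𝒯4 : 𝒯.ncard ≤ 4 := by
      refine (Set.ncard_le_ncard h𝒯 (Set.toFinite _)).trans ?_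
      refine (Set.ncard_insert_le _ _).trans (Nat.succ_le_succ ?_)
      refine (Set.ncard_insert_le _ _).trans (Nat.succ_le_succ ?_)
      exact (Set.ncard_insert_le _ _).trans (Nat.succ_le_succ (by rw [Set.ncard_singleton]))
    have hfix : ∀ g ∈ P, cj g '' tri A = tri A := fun g hg =>
      fixed_of_small hS (fun g s => cj g '' s)
        (fun s => by simp [show cj (1 : GL (Fin 3) F) = id from funext cj_one])
        (fun g h s => by rw [← Set.image_comp]; exact congrArg (· '' s) (funext fun Y => (cj_cj g h Y).symm))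
        (by rintro g hg _ ⟨Z, hZ, rfl⟩; exact ⟨cj g Z, hconj g hg Z hZ, (tri_cj (le_gam hg) Z).symm⟩)
        ((Set.toFinite _).subset h𝒯) h𝒯4 g hg _ ⟨A, hA, rfl⟩
    exact no_small hS h2 (fun g hg Y hY => hfix g hg ▸ Set.mem_image_of_mem _ hY) tri_card.2 tri_card.1
      ⟨hA, Or.inl rfl⟩ hA.1
  · -- no commuting pair
    push Not at hcomm
    obtain ⟨g, hg, hne⟩ : ∃ g ∈ P, cj g E ≠ E := by
      by_contra hcon
      push Not at hcon
      exact hE.1.not_commute hS h2 hcon
    set E' := cj g E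
    have hE' : Hm P μ E' := hE.cj (le_gam hg)
    obtain ⟨hc, hc1, hF⟩ := (pair hE hE' (Ne.symm hne)).resolve_left (hcomm _ _ hE hE')
    obtain ⟨-, t, ht, hte⟩ := id hF
    obtain ⟨-, gE, hgE, hgEe⟩ := id hE
    set W := axisPr E E'
    set four : Set M3 := {E, E', cj gE E', cj (gE * gE) E'}
    obtain ⟨Z, hZ, hZo⟩ : ∃ Z, Hm P μ Z ∧ Z ∉ four := by
      by_contra hcon
      push Not at hcon
      refine no_small hS h2 hconj hfin ?_ hE hE.1
      refine (Set.ncard_le_ncard (fun Z hZ => hcon Z hZ) (Set.toFinite _)).trans ?_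
      refine (Set.ncard_insert_le _ _).trans (Nat.succ_le_succ ?_)
      refine (Set.ncard_insert_le _ _).trans (Nat.succ_le_succ ?_)
      exact (Set.ncard_insert_le _ _).trans (Nat.succ_le_succ (by rw [Set.ncard_singleton]))
    have v : ∀ {Y : M3}, Hm P μ Y → Z ≠ Y → 3 * (Z * Y).trace = 1 := fun hY h =>
      ((pair hZ hY h).resolve_left (hcomm _ _ hZ hY)).1
    simp only [four, Set.mem_insert_iff, Set.mem_singleton_iff, not_or] at hZo
    -- the four sum to twice the projection
    have sumfour : E + E' + cj gE E' + cj (gE * gE) E' = (2 : F) • (1 - W) := by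
      have hgg : ((gE * gE : GL (Fin 3) F) : M3) = hm (μ * μ) E := by
        rw [Units.val_mul, hgEe, hm_mul hE.1.idem]
      have hi : μ⁻¹ = μ ^ 2 := inv_eq_of_mul_eq_one_right (by linear_combination hμ3)
      have hi2 : (μ * μ)⁻¹ = μ := inv_eq_of_mul_eq_one_right (by linear_combination hμ3)
      have hcv : (E * E').trace = 1 / 3 := by field_simp; linear_combination hc
      have hI : (1 - (1 / 3 : F))⁻¹ = 3 / 2 := by
        rw [show (1 : F) - 1 / 3 = 2 / 3 by field_simp; norm_num, inv_div]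
      have hs : E * E' * E = (1 / 3 : F) • E := by rw [hE.1.sandwich, hcv]
      rw [cj_of_hm hE.1 h0 hgEe, cj_of_hm hE.1 (mul_ne_zero h0 h0) hgg, hi, hi2]
      simp only [W, axisPr, sub_sub_cancel, hcv, hI, hm, add_mul, mul_add, one_mul, mul_one,
        smul_mul_assoc, mul_smul_comm, smul_add, smul_sub, smul_smul, hs]
      match_scalars <;> field_simp <;> grobner
    have hf : 3 * (W * Z).trace = 1 := by
      have e := congrArg (fun Y => (Z * Y).trace) sumfour
      simp only [mul_add, mul_sub, mul_one, mul_smul_comm, Matrix.trace_add, Matrix.trace_sub,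
        Matrix.trace_smul, smul_eq_mul, hZ.1.trace, Matrix.trace_mul_comm Z W] at e
      have v1 := v hE hZo.1
      have v2 := v hE' hZo.2.1
      have v3 := v (hE'.cj hgE) hZo.2.2.1
      have v4 := v (hE'.cj ((gam P).mul_mem hgE hgE)) hZo.2.2.2
      refine mul_left_cancel₀ h2 ?_
      linear_combination 3 * e - v1 - v2 - v3 - v4
    -- the reflection moves `Z` to a forbidden position
    have hneg : (-1 : F) ≠ 0 := neg_ne_zero.mpr one_ne_zero
    set Z' := cj t Z
    have hZ' : Hm P μ Z' := hZ.cj ht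
    have e : (Z * Z').trace = (1 - 2 * (W * Z).trace) ^ 2 := by
      have e2 : Z * Z' = (Z * (t : M3) * Z) * ((t⁻¹ : GL (Fin 3) F) : M3) := by
        simp only [Z', Homology.cj, mul_assoc]
      rw [e2, hZ.1.sandwich, hte, hF.1.hm_inv hneg hte, inv_neg, inv_one, smul_mul_assoc,
        Matrix.trace_smul, smul_eq_mul, hm]
      simp only [mul_add, mul_one, mul_smul_comm, Matrix.trace_add, Matrix.trace_smul, smul_eq_mul,
        hZ.1.trace, Matrix.trace_mul_comm Z W]
      ring
    have e9 : 9 * (Z * Z').trace = 1 := by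
      linear_combination 9 * e + (4 * (3 * (W * Z).trace) - 8) * hf
    by_cases h : Z = Z'
    · rw [← h, hZ.1.idem, hZ.1.trace] at e9
      exact mul_ne_zero (mul_ne_zero h2 h2) h2 (by linear_combination e9)
    · have := v hZ' h
      exact h2 (by linear_combination e9 - 3 * this)

end Homology

/-- **No homology of ratio other than `±1`.** -/
theorem sq_eq_one_of_hasHomology {F : Type*} [Field F] [Finite F] (p : ℕ) [Fact p.Prime] [CharP F p]
    (hp : p ≠ 2) {P : Subgroup (GL (Fin 3) F)} (hS : Setting P) (hT : NoTransvection P) {lam : F}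
    (hl : HasHomology P lam) : lam ^ 2 = 1 := by
  obtain ⟨g, hg, c, a, φ, haφ, hge⟩ := hl
  have hc : c ≠ 0 := by rintro rfl; exact g.ne_zero (by rw [hge, zero_smul])
  obtain ⟨k, hk, hke⟩ := Homology.exists_smul_mem (Homology.le_gam hg) (inv_ne_zero hc)
  have hE : Homology.Hm P lam (Matrix.vecMulVec a φ) :=
    ⟨⟨a, φ, haφ, rfl⟩, k, hk, by rw [hke, hge, smul_smul, inv_mul_cancel₀ hc, one_smul]; rfl⟩
  have h0 := hE.ne_zero
  by_contra hne
  have hfin : IsOfFinOrder lam := by
    have := (isOfFinOrder_of_finite (Units.mk0 lam h0))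
    rwa [← Units.isOfFinOrder_val] at this
  have hpos := hfin.orderOf_pos
  have h3 : 3 ≤ orderOf lam := by
    by_contra hlt
    have e := pow_orderOf_eq_one lam
    interval_cases orderOf lam
    · exact hne (by linear_combination (lam + 1) * e)
    · exact hne e
  rcases (show orderOf lam = 3 ∨ orderOf lam = 4 ∨ orderOf lam = 5 ∨ 6 ≤ orderOf lam by omega) with
    h | h | h | h
  · exact Homology.no_three p hp hS hT h hE
  · exact Homology.no_four p hp hS hT h hE
  · exact Homology.no_five p hp hS hT h hE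
  · exact Homology.no_six p hp hS hT h hE

end Cfsg.Agent.Linear.Mitchell
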