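import Cfsg.Agent.Linear.Mitchell.Defs
import Cfsg.Agent.H63.PerfectAction

/-!
Homologies in a subgroup of `SL₃` without transvections: idempotents of rank one, the degenerate pairs,
and invariant sets of at most four idempotents.
-/

set_option autoImplicit false

namespace Cfsg.Agent.Linear.Mitchell.Homology

open scoped MatrixGroups Matrix
open Cfsg.Geo
open Matrix (vecMulVec)

variable {F : Type*} [Field F]

local notation "M3" => Matrix (Fin 3) (Fin 3) F

/-- An idempotent of rank one. -/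
def IsPr (E : M3) : Prop := ∃ a φ : Fin 3 → F, φ ⬝ᵥ a = 1 ∧ E = vecMulVec a φ

/-- The homology with ratio `μ` given by an idempotent. -/
def hm (μ : F) (E : M3) : M3 := 1 + (μ - 1) • E

/-- Conjugation of matrices by an element of the general linear group. -/
def cj (g : GL (Fin 3) F) (X : M3) : M3 := (g : M3) * X * ((g⁻¹ : GL (Fin 3) F) : M3)

/-- `P` times the scalars. -/
def gam (P : Subgroup (GL (Fin 3) F)) : Subgroup (GL (Fin 3) F) where
  carrier := {g | ∃ x ∈ P, ∃ c : F, (g : M3) = c • (x : M3)}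
  one_mem' := ⟨1, P.one_mem, 1, by simp⟩
  mul_mem' := by
    rintro g h ⟨x, hx, c, hc⟩ ⟨y, hy, d, hd⟩
    refine ⟨x * y, P.mul_mem hx hy, c * d, ?_⟩
    rw [Units.val_mul, Units.val_mul, hc, hd, smul_mul_assoc, mul_smul_comm, smul_smul]
  inv_mem' := by
    rintro g ⟨x, hx, c, hc⟩
    have h0 : c ≠ 0 := by rintro rfl; exact g.ne_zero (by rw [hc, zero_smul])
    refine ⟨x⁻¹, P.inv_mem hx, c⁻¹, ?_⟩
    apply Units.inv_eq_of_mul_eq_one_right
    rw [hc, smul_mul_assoc, mul_smul_comm, smul_smul, mul_inv_cancel₀ h0, one_smul, Units.mul_inv]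

/-- The idempotents of the homologies of ratio `μ`. -/
def Hm (P : Subgroup (GL (Fin 3) F)) (μ : F) (E : M3) : Prop :=
  IsPr E ∧ ∃ g ∈ gam P, (g : M3) = hm μ E

/-- Two idempotents annihilate each other. -/
def Orth (E E' : M3) : Prop := E * E' = 0 ∧ E' * E = 0

variable {P : Subgroup (GL (Fin 3) F)}

theorem le_gam : P ≤ gam P := fun x hx => ⟨x, hx, 1, by simp⟩

theorem exists_smul_mem {g : GL (Fin 3) F} (hg : g ∈ gam P) {c : F} (hc : c ≠ 0) :
    ∃ h ∈ gam P, (h : M3) = c • (g : M3) := by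
  obtain ⟨x, hx, d, hd⟩ := hg
  refine ⟨⟨c • (g : M3), c⁻¹ • ((g⁻¹ : GL (Fin 3) F) : M3), ?_, ?_⟩, ⟨x, hx, c * d, ?_⟩, rfl⟩
  · rw [smul_mul_assoc, mul_smul_comm, smul_smul, mul_inv_cancel₀ hc, one_smul, Units.mul_inv]
  · rw [smul_mul_assoc, mul_smul_comm, smul_smul, inv_mul_cancel₀ hc, one_smul, Units.inv_mul]
  · show c • (g : M3) = _
    rw [hd, smul_smul]

theorem no_tv (hS : Setting P) (hT : NoTransvection P) {g : GL (Fin 3) F} (hg : g ∈ gam P)
    {u ψ : Fin 3 → F} (h0 : ψ ⬝ᵥ u = 0) (he : (g : M3) = 1 + vecMulVec u ψ) : vecMulVec u ψ = 0 := by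
  by_cases hu : u = 0
  · simp [hu]
  obtain ⟨x, hx, c, hc⟩ := hg
  have ht : H95.tv u ψ h0 = g := Units.ext (by rw [H95.tv_val, he]; rfl)
  have hdet : ∀ y : GL (Fin 3) F, y ∈ specialLinear (Fin 3) F → (y : M3).det = 1 := fun y hy => by
    rw [specialLinear, MonoidHom.mem_ker, Units.ext_iff] at hy
    simpa using hy
  have hc3 : c ^ 3 = 1 := by
    have e := congrArg Matrix.det hc
    rwa [hdet g (ht ▸ H95.tv_mem_specialLinear u ψ h0), Matrix.det_smul, hdet x (hS.le_sl hx),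
      mul_one, Fintype.card_fin, eq_comm] at e
  by_cases h3 : (3 : F) = 0
  · have hc1 : c = 1 := by
      have : (c - 1) ^ 3 = 0 := by linear_combination hc3 - (c ^ 2 - c) * h3
      exact sub_eq_zero.mp (eq_zero_of_pow_eq_zero this)
    have hgx : g = x := Units.ext (by rw [hc, hc1, one_smul])
    rw [hT u ψ hu ⟨h0, by rw [ht, hgx]; exact hx⟩]
    simp
  · have e2 : ∀ ψ' : Fin 3 → F, (1 + vecMulVec u ψ) * (1 + vecMulVec u ψ') = 1 + vecMulVec u (ψ + ψ') :=
      fun ψ' => by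
        rw [add_mul, mul_add, mul_add, Matrix.vecMulVec_mul_vecMulVec, h0, zero_smul,
          Matrix.vecMulVec_zero, Matrix.vecMulVec_add, one_mul, mul_one, one_mul, add_zero]
        abel
    have h0' : (ψ + (ψ + ψ)) ⬝ᵥ u = 0 := by simp [add_dotProduct, h0]
    have e3 : H95.tv u (ψ + (ψ + ψ)) h0' = x ^ 3 := by
      refine Units.ext ?_
      rw [Units.val_pow_eq_pow_val, H95.tv_val, H95.tvMat, ← e2, ← e2, ← he, hc, ← pow_three, smul_pow, hc3, one_smul]
    have h4 := hT u _ hu ⟨h0', e3 ▸ P.pow_mem hx 3⟩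
    have : ψ = 0 := by
      funext i
      have h5 := congrFun h4 i
      simp only [Pi.add_apply, Pi.zero_apply] at h5
      exact (mul_eq_zero.mp (show (3 : F) * ψ i = 0 by linear_combination h5)).resolve_left h3
    simp [this]

theorem IsPr.idem {E : M3} (h : IsPr E) : E * E = E := by
  obtain ⟨a, φ, h1, rfl⟩ := h
  rw [Matrix.vecMulVec_mul_vecMulVec, h1, one_smul]

theorem IsPr.trace {E : M3} (h : IsPr E) : E.trace = 1 := by
  obtain ⟨a, φ, h1, rfl⟩ := h
  rw [Matrix.trace_vecMulVec, dotProduct_comm, h1]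

theorem IsPr.ne_zero {E : M3} (h : IsPr E) : E ≠ 0 := fun e => by
  have := h.trace
  rw [e, Matrix.trace_zero] at this
  exact zero_ne_one this

theorem IsPr.sandwich {E : M3} (h : IsPr E) (X : M3) : E * X * E = (E * X).trace • E := by
  obtain ⟨a, φ, -, rfl⟩ := h
  rw [Matrix.vecMulVec_mul, Matrix.trace_vecMulVec, Matrix.vecMulVec_mul_vecMulVec,
    Matrix.vecMulVec_smul, dotProduct_comm]

theorem IsPr.cj {E : M3} (h : IsPr E) (g : GL (Fin 3) F) : IsPr (cj g E) := by
  obtain ⟨a, φ, h1, rfl⟩ := h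
  refine ⟨(g : M3) *ᵥ a, φ ᵥ* ((g⁻¹ : GL (Fin 3) F) : M3), ?_, ?_⟩
  · rw [← Matrix.dotProduct_mulVec, Matrix.mulVec_mulVec, Units.inv_mul, Matrix.one_mulVec, h1]
  · rw [Homology.cj, Matrix.mul_vecMulVec, Matrix.vecMulVec_mul]

theorem cj_mul_cj (g : GL (Fin 3) F) (X Y : M3) : cj g X * cj g Y = cj g (X * Y) := by
  simp only [cj, mul_assoc]
  rw [← mul_assoc ((g⁻¹ : GL (Fin 3) F) : M3) (g : M3), Units.inv_mul, one_mul]

theorem cj_cj (g h : GL (Fin 3) F) (X : M3) : cj g (cj h X) = cj (g * h) X := by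
  simp [cj, mul_inv_rev, mul_assoc]

theorem cj_one (X : M3) : cj 1 X = X := by simp [cj]

theorem cj_injective (g : GL (Fin 3) F) : Function.Injective (cj g) := fun X Y h => by
  have := congrArg (cj g⁻¹) h
  rwa [cj_cj, cj_cj, inv_mul_cancel, cj_one, cj_one] at this

theorem trace_cj (g : GL (Fin 3) F) (X : M3) : (cj g X).trace = X.trace := by
  rw [cj, Matrix.trace_mul_comm, ← mul_assoc, Units.inv_mul, one_mul]

theorem trace_cj_mul_cj (g : GL (Fin 3) F) (X Y : M3) : (cj g X * cj g Y).trace = (X * Y).trace := by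
  rw [cj_mul_cj, trace_cj]

theorem Orth.symm {E E' : M3} (h : Orth E E') : Orth E' E := ⟨h.2, h.1⟩

theorem Orth.cj {E E' : M3} (h : Orth E E') (g : GL (Fin 3) F) : Orth (cj g E) (cj g E') :=
  ⟨by rw [cj_mul_cj, h.1]; simp [Homology.cj], by rw [cj_mul_cj, h.2]; simp [Homology.cj]⟩

theorem Orth.trace {E E' : M3} (h : Orth E E') : (E * E').trace = 0 := by
  rw [h.1, Matrix.trace_zero]

theorem hm_mul {E : M3} (h : E * E = E) (μ ν : F) : hm μ E * hm ν E = hm (μ * ν) E := by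
  simp only [hm, add_mul, mul_add, smul_mul_assoc, mul_smul_comm, h, one_mul, mul_one]
  module

theorem hm_one (E : M3) : hm 1 E = 1 := by simp [hm]

theorem Hm.ne_zero {μ : F} {E : M3} (h : Hm P μ E) : μ ≠ 0 := by
  rintro rfl
  obtain ⟨hE, g, -, he⟩ := h
  have h0 : (g : M3) * E = 0 := by
    rw [he, hm, add_mul, smul_mul_assoc, hE.idem, one_mul]
    module
  exact hE.ne_zero ((Units.mul_right_eq_zero g).mp h0)

theorem Hm.pow {μ : F} {E : M3} (h : Hm P μ E) (k : ℕ) : Hm P (μ ^ k) E := by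
  obtain ⟨hE, g, hg, he⟩ := h
  refine ⟨hE, g ^ k, (gam P).pow_mem hg k, ?_⟩
  rw [Units.val_pow_eq_pow_val, he]
  induction k with
  | zero => rw [pow_zero, pow_zero, hm_one]
  | succ k ih => rw [pow_succ, ih, hm_mul hE.idem, pow_succ]

theorem Hm.inv {μ : F} {E : M3} (h : Hm P μ E) : Hm P μ⁻¹ E := by
  have h0 := h.ne_zero
  obtain ⟨hE, g, hg, he⟩ := h
  refine ⟨hE, g⁻¹, (gam P).inv_mem hg, ?_⟩
  apply Units.inv_eq_of_mul_eq_one_right
  rw [he, hm_mul hE.idem, mul_inv_cancel₀ h0, hm_one]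

theorem Hm.cj {μ : F} {E : M3} (h : Hm P μ E) {g : GL (Fin 3) F} (hg : g ∈ gam P) :
    Hm P μ (cj g E) := by
  obtain ⟨hE, k, hk, he⟩ := h
  refine ⟨hE.cj g, g * k * g⁻¹, (gam P).mul_mem ((gam P).mul_mem hg hk) ((gam P).inv_mem hg), ?_⟩
  rw [Units.val_mul, Units.val_mul, he, hm, hm, Homology.cj, mul_add, add_mul, mul_one, Units.mul_inv,
    mul_smul_comm, smul_mul_assoc]

/-- The complement of two idempotents which are not in degenerate position. -/
theorem isPr_compl {E E' : M3} (hE : IsPr E) (hE' : IsPr E') (hc : (E * E').trace ≠ 1) :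
    IsPr (1 - (1 - (E * E').trace)⁻¹ • (E + E' - E * E' - E' * E)) := by
  obtain ⟨a, φ, ha, rfl⟩ := hE
  obtain ⟨b, ψ, hb, rfl⟩ := hE'
  set c := (vecMulVec a φ * vecMulVec b ψ).trace with hcd
  have hce : c = φ ⬝ᵥ b * (ψ ⬝ᵥ a) := by
    rw [hcd, Matrix.vecMulVec_mul_vecMulVec, Matrix.trace_vecMulVec, dotProduct_smul,
      dotProduct_comm a ψ, smul_eq_mul]
  have h1 : 1 - c ≠ 0 := sub_ne_zero.mpr (Ne.symm hc)
  simp only [dotProduct, Fin.sum_univ_three] at ha hb hce
  refine ⟨![φ 1 * ψ 2 - φ 2 * ψ 1, φ 2 * ψ 0 - φ 0 * ψ 2, φ 0 * ψ 1 - φ 1 * ψ 0],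
    (1 - c)⁻¹ • ![a 1 * b 2 - a 2 * b 1, a 2 * b 0 - a 0 * b 2, a 0 * b 1 - a 1 * b 0], ?_, ?_⟩
  · simp [dotProduct, Fin.sum_univ_three]
    field_simp
    linear_combination (ψ 0 * b 0 + ψ 1 * b 1 + ψ 2 * b 2) * ha + hb - hce.symm
  · have key : (1 - c) • (1 : M3) -
        (vecMulVec a φ + vecMulVec b ψ - vecMulVec a φ * vecMulVec b ψ - vecMulVec b ψ * vecMulVec a φ) =
      vecMulVec ![φ 1 * ψ 2 - φ 2 * ψ 1, φ 2 * ψ 0 - φ 0 * ψ 2, φ 0 * ψ 1 - φ 1 * ψ 0]
        ![a 1 * b 2 - a 2 * b 1, a 2 * b 0 - a 0 * b 2, a 0 * b 1 - a 1 * b 0] := by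
      ext i j
      fin_cases i <;> fin_cases j <;>
        simp [Matrix.vecMulVec_apply, Matrix.mul_apply, Fin.sum_univ_three, hce] <;>
        grobner
    rw [Matrix.vecMulVec_smul, ← key]
    match_scalars <;> field_simp

theorem isPr_compl_orth {E E' : M3} (hE : IsPr E) (hE' : IsPr E') (h : Orth E E') :
    IsPr (1 - E - E') := by
  have := isPr_compl hE hE' (by rw [h.trace]; exact zero_ne_one)
  rwa [h.trace, h.1, h.2, sub_zero, sub_zero, sub_zero, inv_one, one_smul, ← sub_sub] at this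

theorem Hm.compl {μ : F} {E E' : M3} (h : Hm P μ E) (h' : Hm P μ E') (ho : Orth E E') :
    Hm P μ⁻¹ (1 - E - E') := by
  have h0 := h.ne_zero
  obtain ⟨hE, g, hg, he⟩ := h
  obtain ⟨hE', g', hg', he'⟩ := h'
  obtain ⟨k, hk, hke⟩ := exists_smul_mem ((gam P).mul_mem hg hg') (inv_ne_zero h0)
  refine ⟨isPr_compl_orth hE hE' ho, k, hk, ?_⟩
  rw [hke, Units.val_mul, he, he', hm, hm, hm, add_mul, mul_add, mul_add, smul_mul_assoc,
    smul_mul_assoc, mul_smul_comm, mul_smul_comm, ho.1, one_mul, mul_one, one_mul]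
  match_scalars <;> field_simp <;> ring

/-- A pair of distinct idempotents is orthogonal or in general position. -/
theorem pair_cases (hS : Setting P) (hT : NoTransvection P) {μ : F} (hμ2 : μ ^ 2 ≠ 1) {E E' : M3}
    (h : Hm P μ E) (h' : Hm P μ E') (hne : E ≠ E') :
    Orth E E' ∨ ((E * E').trace ≠ 0 ∧ (E * E').trace ≠ 1) := by
  have h0 := h.ne_zero
  have hμ1 : μ - 1 ≠ 0 := fun e => hμ2 (by rw [sub_eq_zero.mp e]; ring)
  obtain ⟨hE, g, hg, he⟩ := h
  obtain ⟨hE', g', hg', he'⟩ := h'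
  have hi : ∀ (X : M3) (k : GL (Fin 3) F), IsPr X → (k : M3) = hm μ X →
      ((k⁻¹ : GL (Fin 3) F) : M3) = hm μ⁻¹ X := fun X k hX hk => by
    apply Units.inv_eq_of_mul_eq_one_right
    rw [hk, hm_mul hX.idem, mul_inv_cancel₀ h0, hm_one]
  -- one product zero
  have side : ∀ (X Y : M3) (k l : GL (Fin 3) F), IsPr X → IsPr Y → k ∈ gam P → l ∈ gam P →
      (k : M3) = hm μ X → (l : M3) = hm μ Y → X * Y = 0 → Y * X = 0 := by
    intro X Y k l hX hY hk hl hke hle hXY
    set m := k * l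
    set U := ((m⁻¹ : GL (Fin 3) F) : M3)
    have hm' : (m : M3) = hm μ X * hm μ Y := by rw [Units.val_mul, hke, hle]
    have hmY : (m : M3) * Y = μ • Y := by
      rw [hm', hm, hm]
      simp only [add_mul, mul_add, one_mul, mul_one, smul_mul_assoc, mul_smul_comm, hY.idem, hXY,
        zero_mul, mul_zero, smul_zero]
      module
    have hel : ((l * k * m⁻¹ : GL (Fin 3) F) : M3) = 1 + ((μ - 1) ^ 2) • (Y * X * U) := by
      have e1 : (l : M3) * (k : M3) = (m : M3) + ((μ - 1) ^ 2) • (Y * X) := by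
        rw [hm', hke, hle, hm, hm]
        simp only [add_mul, mul_add, one_mul, mul_one, smul_mul_assoc, mul_smul_comm, hXY,
          zero_mul, mul_zero, smul_zero]
        module
      rw [Units.val_mul, Units.val_mul, e1, add_mul, Units.mul_inv, smul_mul_assoc]
    have hYXU : Y * X * U * Y = 0 := by
      have : U * Y = μ⁻¹ • Y := by
        have := congrArg (U * ·) hmY
        simp only [U, ← mul_assoc, Units.inv_mul, one_mul, mul_smul_comm] at this
        rw [eq_inv_smul_iff₀ h0]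
        exact this.symm
      rw [mul_assoc, mul_assoc, this, mul_smul_comm, hXY]
      simp
    obtain ⟨y, η, hy1, rfl⟩ := hY
    have hv : vecMulVec y η * X * U = vecMulVec y (η ᵥ* (X * U)) := by
      rw [mul_assoc, Matrix.vecMulVec_mul]
    have hzero : (η ᵥ* (X * U)) ⬝ᵥ y = 0 := by
      rw [hv, Matrix.vecMulVec_mul_vecMulVec] at hYXU
      by_contra hne0
      have := congrArg Matrix.trace hYXU
      rw [Matrix.vecMulVec_smul, Matrix.trace_smul, Matrix.trace_vecMulVec, dotProduct_comm y η, hy1,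
        Matrix.trace_zero, smul_eq_mul, mul_one] at this
      exact hne0 (by first | exact this | rw [dotProduct_comm]; exact this)
    have := no_tv hS hT ((gam P).mul_mem ((gam P).mul_mem hl hk) ((gam P).inv_mem ((gam P).mul_mem hk hl)))
      (u := y) (ψ := ((μ - 1) ^ 2) • (η ᵥ* (X * U))) (by rw [smul_dotProduct, hzero, smul_zero])
      (by rw [hel, hv, Matrix.vecMulVec_smul])
    rw [Matrix.vecMulVec_smul, ← hv, smul_eq_zero] at this
    have h2 := congrArg (· * (m : M3)) (this.resolve_left (pow_ne_zero 2 hμ1))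
    simpa [U, mul_assoc] using h2
  by_cases hc0 : (E * E').trace = 0
  · left
    obtain ⟨a, φ, ha, hEe⟩ := id hE
    obtain ⟨b, ψ, hb, hE'e⟩ := id hE'
    have e1 : E * E' = (φ ⬝ᵥ b) • vecMulVec a ψ := by
      rw [hEe, hE'e, Matrix.vecMulVec_mul_vecMulVec, Matrix.vecMulVec_smul]
    rw [e1, Matrix.trace_smul, Matrix.trace_vecMulVec, smul_eq_mul, mul_eq_zero] at hc0
    rcases hc0 with h1 | h1
    · have h2 : E * E' = 0 := by rw [e1, h1, zero_smul]
      exact ⟨h2, side E E' g g' hE hE' hg hg' he he' h2⟩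
    · have h2 : E' * E = 0 := by
        rw [hEe, hE'e, Matrix.vecMulVec_mul_vecMulVec, dotProduct_comm ψ a, h1, zero_smul,
          Matrix.vecMulVec_zero]
      exact ⟨side E' E g' g hE' hE hg' hg he' he h2, h2⟩
  right
  refine ⟨hc0, fun hc1 => ?_⟩
  obtain ⟨a, φ, ha, hEe⟩ := id hE
  obtain ⟨b, ψ, hb, hE'e⟩ := id hE'
  have e1 : E * E' = (φ ⬝ᵥ b) • vecMulVec a ψ := by
    rw [hEe, hE'e, Matrix.vecMulVec_mul_vecMulVec, Matrix.vecMulVec_smul]
  have e2 : E' * E = (ψ ⬝ᵥ a) • vecMulVec b φ := by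
    rw [hEe, hE'e, Matrix.vecMulVec_mul_vecMulVec, Matrix.vecMulVec_smul]
  set p := φ ⬝ᵥ b
  set q := ψ ⬝ᵥ a
  have hpq : p * q = 1 := by
    rw [e1, Matrix.trace_smul, Matrix.trace_vecMulVec, smul_eq_mul, dotProduct_comm a ψ] at hc1
    exact hc1
  set w := a - q • b
  set η := φ - p • ψ
  have hX : E + E' - E * E' - E' * E = vecMulVec w η := by
    rw [e1, e2, hEe, hE'e]
    ext i j
    simp only [w, η, Matrix.add_apply, Matrix.sub_apply, Matrix.smul_apply, Matrix.vecMulVec_apply,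
      Pi.sub_apply, Pi.smul_apply, smul_eq_mul]
    linear_combination (-(b i) * ψ j) * hpq
  have hw1 : E *ᵥ w = 0 := by
    simp only [w, hEe, Matrix.vecMulVec_mulVec, dotProduct_sub, dotProduct_smul, ha, smul_eq_mul]
    rw [mul_comm, hpq]
    simp
  have hw2 : E' *ᵥ w = 0 := by
    simp [w, q, hE'e, Matrix.vecMulVec_mulVec, dotProduct_sub, dotProduct_smul, hb]
  have hηw : η ⬝ᵥ w = 0 := by
    simp only [w, η, sub_dotProduct, dotProduct_sub, smul_dotProduct, dotProduct_smul, ha, hb,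
      smul_eq_mul]
    show 1 - p * q - q * (p - p * 1) = 0
    linear_combination -hpq
  set m := g' * g⁻¹ * (g⁻¹ * g') -- `u'u`
  set U := ((m⁻¹ : GL (Fin 3) F) : M3)
  have hUw : U *ᵥ w = w := by
    have hfix : ∀ (X : M3) (ν : F), X *ᵥ w = 0 → hm ν X *ᵥ w = w := fun X ν hX => by
      rw [hm, Matrix.add_mulVec, Matrix.one_mulVec, Matrix.smul_mulVec, hX, smul_zero, add_zero]
    have hmw : (m : M3) *ᵥ w = w := by
      simp only [m, Units.val_mul, hi E g hE he, he', ← Matrix.mulVec_mulVec, hfix E _ hw1,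
        hfix E' _ hw2]
    conv_lhs => rw [← hmw]
    rw [Matrix.mulVec_mulVec, Units.inv_mul, Matrix.one_mulVec]
  set κ := (μ - 1) ^ 2 * (1 - μ⁻¹ ^ 2)
  have hel : (g⁻¹ : GL (Fin 3) F).val * g' * (g' * g⁻¹ : GL (Fin 3) F) =
      (m : M3) + κ • (E + E' - E * E' - E' * E) := by
    have hsand1 : E * E' * E = E := by rw [hE.sandwich, hc1, one_smul]
    have hsand2 : E' * E * E' = E' := by
      rw [hE'.sandwich, Matrix.trace_mul_comm, hc1, one_smul]
    have hsand1' : E * (E' * E) = E := by rw [← mul_assoc, hsand1]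
    have hsand2' : E' * (E * E') = E' := by rw [← mul_assoc, hsand2]
    have hsand1'' : ∀ X : M3, E * (E' * (E * X)) = E * X := fun X => by
      rw [← mul_assoc, ← mul_assoc, hsand1]
    have hsand2'' : ∀ X : M3, E' * (E * (E' * X)) = E' * X := fun X => by
      rw [← mul_assoc, ← mul_assoc, hsand2]
    have hid1 : ∀ X : M3, E * (E * X) = E * X := fun X => by rw [← mul_assoc, hE.idem]
    have hid2 : ∀ X : M3, E' * (E' * X) = E' * X := fun X => by rw [← mul_assoc, hE'.idem]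
    simp only [m, κ, Units.val_mul, hi E g hE he, he', hm, add_mul, mul_add, one_mul, mul_one,
      smul_mul_assoc, mul_smul_comm, mul_assoc, hsand1', hsand2', hsand1'', hsand2'', hid1, hid2,
      hE.idem, hE'.idem, smul_add,
      smul_sub, smul_smul]
    match_scalars <;> field_simp <;> ring
  have hm_mem : m ∈ gam P := (gam P).mul_mem ((gam P).mul_mem hg' ((gam P).inv_mem hg))
    ((gam P).mul_mem ((gam P).inv_mem hg) hg')
  have hz := no_tv hS hT (g := g⁻¹ * g' * (g' * g⁻¹) * m⁻¹)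
    ((gam P).mul_mem ((gam P).mul_mem ((gam P).mul_mem ((gam P).inv_mem hg) hg')
      ((gam P).mul_mem hg' ((gam P).inv_mem hg))) ((gam P).inv_mem hm_mem))
    (u := w) (ψ := κ • (η ᵥ* U))
    (by rw [smul_dotProduct, ← Matrix.dotProduct_mulVec, hUw, hηw, smul_zero])
    (by rw [Units.val_mul, Units.val_mul, Units.val_mul g⁻¹ g', hel, add_mul, Units.mul_inv,
      smul_mul_assoc, hX, Matrix.vecMulVec_mul, Matrix.vecMulVec_smul])
  have hκ : κ ≠ 0 := mul_ne_zero (pow_ne_zero 2 hμ1) fun e => hμ2 (by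
    field_simp at e
    linear_combination e)
  rw [Matrix.vecMulVec_smul, smul_eq_zero, or_iff_right hκ, ← Matrix.vecMulVec_mul] at hz
  have hX0 : vecMulVec w η = 0 := by simpa [U, mul_assoc] using congrArg (· * (m : M3)) hz
  rw [Matrix.vecMulVec_eq_zero] at hX0
  have hel2 : ((g * g'⁻¹ : GL (Fin 3) F) : M3) = hm μ E * hm μ⁻¹ E' := by
    rw [Units.val_mul, he, hi E' g' hE' he']
  rcases hX0 with hw0 | hη0
  · -- same centre
    have ha' : a = q • b := sub_eq_zero.mp hw0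
    have hE'a : E' = vecMulVec a (p • ψ) := by
      rw [hE'e, ha', Matrix.smul_vecMulVec, Matrix.vecMulVec_smul, smul_smul, mul_comm, hpq, one_smul]
    have h1 : (p • ψ) ⬝ᵥ a = 1 := by rw [smul_dotProduct, smul_eq_mul, hpq]
    have hz := no_tv hS hT ((gam P).mul_mem hg ((gam P).inv_mem hg')) (u := a)
      (ψ := (μ - 1) • (φ - p • ψ)) (by rw [smul_dotProduct, sub_dotProduct, ha, h1, sub_self, smul_zero])
      (by
        rw [hel2, hm, hm, hEe, hE'a]
        simp only [add_mul, mul_add, one_mul, mul_one, smul_mul_assoc, mul_smul_comm,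
          Matrix.vecMulVec_mul_vecMulVec, ha, one_smul, Matrix.vecMulVec_smul, Matrix.vecMulVec_sub]
        match_scalars <;> field_simp <;> ring)
    rw [Matrix.vecMulVec_smul, smul_eq_zero, or_iff_right hμ1, Matrix.vecMulVec_sub, sub_eq_zero] at hz
    exact hne (by rw [hEe, hE'a]; exact hz)
  · -- same axis
    have hφ : φ = p • ψ := sub_eq_zero.mp hη0
    have hEb : E = vecMulVec (p • a) ψ := by
      rw [hEe, hφ, Matrix.smul_vecMulVec, Matrix.vecMulVec_smul]
    have h1 : ψ ⬝ᵥ (p • a) = 1 := by rw [dotProduct_smul, smul_eq_mul, hpq]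
    have hz := no_tv hS hT ((gam P).mul_mem hg ((gam P).inv_mem hg')) (u := (1 - μ⁻¹) • (p • a - b))
      (ψ := ψ) (by rw [dotProduct_smul, dotProduct_sub, h1, hb, sub_self, smul_zero])
      (by
        rw [hel2, hm, hm, hEb, hE'e]
        simp only [add_mul, mul_add, one_mul, mul_one, smul_mul_assoc, mul_smul_comm,
          Matrix.vecMulVec_mul_vecMulVec, hb, one_smul, Matrix.smul_vecMulVec, Matrix.sub_vecMulVec]
        match_scalars <;> field_simp <;> ring)
    have h2 : 1 - μ⁻¹ ≠ 0 := fun e => hμ1 (by field_simp at e; simpa using e)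
    rw [Matrix.smul_vecMulVec, smul_eq_zero, or_iff_right h2, Matrix.sub_vecMulVec, sub_eq_zero] at hz
    exact hne (by rw [hEb, hE'e]; exact hz)

/-- A perfect group permuting at most four objects fixes each of them. -/
theorem fixed_of_small (hS : Setting P) {α : Type*} {C : Set α} (f : GL (Fin 3) F → α → α)
    (h1 : ∀ x, f 1 x = x) (hmul : ∀ g h x, f (g * h) x = f g (f h x))
    (hC : ∀ g ∈ P, ∀ x ∈ C, f g x ∈ C) (hfin : C.Finite) (hcard : C.ncard ≤ 4) :
    ∀ g ∈ P, ∀ x ∈ C, f g x = x := by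
  haveI : Group.IsPerfect P := Subgroup.isPerfect_iff.mpr hS.perfect
  haveI := hfin.to_subtype
  let act : P → C → C := fun g x => ⟨f g x, hC g g.2 x x.2⟩
  let π : P →* Equiv.Perm C :=
    { toFun := fun g =>
        ⟨act g, act g⁻¹,
          fun x => Subtype.ext (by simp [act, ← hmul, h1]),
          fun x => Subtype.ext (by simp [act, ← hmul, h1])⟩
      map_one' := Equiv.ext fun x => Subtype.ext (h1 x)
      map_mul' := fun g h => Equiv.ext fun x => Subtype.ext (hmul g h x) }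
  intro g hg x hx
  exact congrArg Subtype.val
    (H63.PerfectAction.fix_of_card_le_four (α := C) hcard π ⟨g, hg⟩ ⟨x, hx⟩)

theorem IsPr.not_commute (hS : Setting P) (h2 : (2 : F) ≠ 0) {E : M3} (hE : IsPr E) :
    ¬ ∀ g ∈ P, Homology.cj g E = E := by
  intro h
  obtain ⟨c, hc⟩ := hS.abs.2 E (by
    rintro _ ⟨g, hg, rfl⟩
    show E * (g : M3) = (g : M3) * E
    conv_lhs => rw [← h g hg, Homology.cj, mul_assoc, Units.inv_mul, mul_one])
  have h1 := hE.trace
  have h3 := hE.idem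
  rw [hc] at h1 h3
  simp [Matrix.trace_one] at h1
  have h4 := congrArg (fun X : M3 => X 0 0) h3
  simp at h4
  have hc0 : c ≠ 0 := by rintro rfl; simp at h1
  have : c = 1 := mul_left_cancel₀ hc0 (h4.trans (mul_one c).symm)
  rw [this] at h1
  exact h2 (by linear_combination h1)

/-- No invariant set of at most four idempotents. -/
theorem no_small (hS : Setting P) (h2 : (2 : F) ≠ 0) {C : Set M3} (hC : ∀ g ∈ P, ∀ X ∈ C, cj g X ∈ C)
    (hfin : C.Finite) (hcard : C.ncard ≤ 4) {E : M3} (hEC : E ∈ C) (hE : IsPr E) : False :=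
  hE.not_commute hS h2 fun g hg =>
    fixed_of_small hS cj cj_one (fun g h X => (cj_cj g h X).symm) hC hfin hcard g hg E hEC

theorem ncard_orth_le {C : Set M3} (hC : ∀ X ∈ C, IsPr X)
    (ho : ∀ X ∈ C, ∀ Y ∈ C, X ≠ Y → Orth X Y) : C.Finite ∧ C.ncard ≤ 3 := by
  choose a φ h1 h2 using hC
  let v : C → Fin 3 → F := fun X => a X X.2
  have hli : LinearIndependent F v := by
    rw [linearIndependent_iff']
    intro s c hc X hX
    have hzero : ∀ Y ∈ s, Y ≠ X → φ X X.2 ⬝ᵥ a Y Y.2 = 0 := fun Y _ hne => by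
      have := (ho X X.2 Y Y.2 fun e => hne (Subtype.ext e.symm)).1
      rw [h2 X X.2, h2 Y Y.2, Matrix.vecMulVec_mul_vecMulVec, Matrix.vecMulVec_eq_zero] at this
      rcases this with h | h
      · have := h1 X X.2
        rw [h, dotProduct_zero] at this
        exact absurd this zero_ne_one
      · rcases smul_eq_zero.mp h with h | h
        · exact h
        · have := h1 Y Y.2
          rw [h, zero_dotProduct] at this
          exact absurd this zero_ne_one
    have := congrArg (fun w => φ X X.2 ⬝ᵥ w) hc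
    simp only [dotProduct_sum, dotProduct_smul, dotProduct_zero, smul_eq_mul, v] at this
    rw [Finset.sum_eq_single X (fun Y hY hne => by rw [hzero Y hY hne, mul_zero])
      (fun h => absurd hX h), h1, mul_one] at this
    exact this
  haveI : Finite C := hli.finite
  haveI := Fintype.ofFinite C
  refine ⟨Set.toFinite C, ?_⟩
  have := hli.fintype_card_le_finrank
  rw [Module.finrank_fin_fun] at this
  rwa [← Nat.card_coe_set_eq, Nat.card_eq_fintype_card]

/-- An idempotent cannot be orthogonal to all its other conjugates. -/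
theorem no_orth_orbit (hS : Setting P) (h2 : (2 : F) ≠ 0) {E : M3} (hE : IsPr E)
    (h : ∀ g ∈ P, cj g E = E ∨ Orth E (cj g E)) : False := by
  set C : Set M3 := (fun g => cj g E) '' (P : Set (GL (Fin 3) F))
  have hC : ∀ g ∈ P, ∀ X ∈ C, cj g X ∈ C := by
    rintro g hg _ ⟨k, hk, rfl⟩
    exact ⟨g * k, P.mul_mem hg hk, (cj_cj g k E).symm⟩
  obtain ⟨hfin, hcard⟩ := ncard_orth_le (C := C) (by rintro _ ⟨k, -, rfl⟩; exact hE.cj k) (by
    rintro _ ⟨g, hg, rfl⟩ _ ⟨k, hk, rfl⟩ (hne : cj g E ≠ cj k E)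
    show Orth (cj g E) (cj k E)
    have e : cj g (cj (g⁻¹ * k) E) = cj k E := by rw [cj_cj, mul_inv_cancel_left]
    rcases h _ (P.mul_mem (P.inv_mem hg) hk) with h1 | h1
    · exact absurd (by rw [← e, h1]) hne
    · rw [← e]; exact h1.cj g)
  exact no_small hS h2 hC hfin (hcard.trans (by norm_num)) ⟨1, P.one_mem, cj_one E⟩ hE

end Cfsg.Agent.Linear.Mitchell.Homology
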