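import Cfsg.Agent.Linear.Dickson.Cases
import Cfsg.Agent.Linear.Dickson.SubfieldMax
import Cfsg.Agent.Linear.Dickson.MaxSmall

/-!
Two elements of `GL₂` with determinant of order at least three generating, modulo scalars, a group
without elements of order `p`.
-/

set_option autoImplicit false

namespace Cfsg.Agent.Linear.Mitchell.Homology

open scoped MatrixGroups
open Cfsg.Agent.Linear Cfsg.Agent.Linear.Dickson

theorem symFour_order (x : Equiv.Perm (Fin 4)) : x ^ 3 = 1 ∨ x ^ 4 = 1 := by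
  revert x; decide +kernel

theorem symFour_three : ∀ x y : Equiv.Perm (Fin 4), x ^ 3 = 1 → y ^ 3 = 1 → x * y ≠ y * x →
    (x * y) ^ 2 = 1 ∨ (x * y) ^ 3 = 1 := by
  decide +kernel

theorem symFour_four : ∀ x y : Equiv.Perm (Fin 4), x ^ 4 = 1 → x ^ 2 ≠ 1 → y ^ 4 = 1 → y ^ 2 ≠ 1 →
    x * y ≠ y * x → (x * y) ^ 3 = 1 := by
  decide +kernel

theorem altFive_order : ∀ x : Equiv.Perm (Fin 5), Equiv.Perm.sign x = 1 →
    x ^ 2 = 1 ∨ x ^ 3 = 1 ∨ x ^ 5 = 1 := by
  decide +kernel

/-- A square root of an element of prime order `n > 2` has, up to sign, order `2n`. -/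
theorem exists_order_double {F : Type*} [Field F] (h2 : (2 : F) ≠ 0) {ζ μ : F} {n : ℕ} (hn : n.Prime)
    (hn2 : n ≠ 2) (hμ : orderOf μ = n) (hζ : ζ ^ 2 = μ) :
    orderOf ζ = 2 * n ∨ orderOf (-ζ) = 2 * n := by
  have hμn : μ ^ n = 1 := hμ ▸ pow_orderOf_eq_one μ
  have key : ∀ η : F, η ^ 2 = μ → η ^ n = -1 → orderOf η = 2 * n := by
    intro η he hen
    have hd : orderOf η ∣ 2 * n := orderOf_dvd_of_pow_eq_one (by rw [pow_mul, he, hμn])
    have hnd : n ∣ orderOf η := by
      rw [← hμ]
      refine orderOf_dvd_of_pow_eq_one ?_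
      rw [← he, ← pow_mul, mul_comm, pow_mul, pow_orderOf_eq_one, one_pow]
    obtain ⟨k, hk⟩ := hnd
    rw [hk, mul_comm 2 n] at hd
    rcases (Nat.dvd_prime Nat.prime_two).mp (Nat.dvd_of_mul_dvd_mul_left hn.pos hd) with rfl | rfl
    · exfalso
      have := pow_orderOf_eq_one η
      rw [hk, mul_one, hen] at this
      exact h2 (by linear_combination -this)
    · rw [hk, mul_comm]
  have hsq : (ζ ^ n) ^ 2 = 1 := by rw [← pow_mul, mul_comm, pow_mul, hζ, hμn]
  rcases sq_eq_one_iff.mp hsq with h | h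
  · exact Or.inr (key _ (by rw [neg_sq, hζ]) (by
      rw [(hn.odd_of_ne_two hn2).neg_pow, h]))
  · exact Or.inl (key ζ hζ h)

/-- A double transposition. -/
def dblSwap : alternatingGroup (Fin 5) :=
  ⟨Equiv.swap 0 1 * Equiv.swap 2 3, Equiv.Perm.mem_alternatingGroup.mpr (by simp)⟩

variable {F : Type*} [Field F]

local notation "M2" => Matrix (Fin 2) (Fin 2) F

theorem one_add_pow_two {N : M2} (h : N * N = 0) (k : ℕ) : (1 + N) ^ k = 1 + (k : F) • N := by
  induction k with
  | zero => simp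
  | succ k ih =>
    rw [pow_succ, ih, mul_add, add_mul, add_mul]
    simp only [smul_mul_assoc, h, smul_zero, one_mul, mul_one, Nat.cast_succ, add_smul, one_smul, add_zero]
    abel

/-- Scalar powers of a non-scalar matrix determine the trace. -/
theorem trace_of_scalar_sq {C : M2} (hC : ∀ c : F, C ≠ c • 1) {e : F} (h : C * C = e • 1) :
    C.trace = 0 := by
  by_contra ht
  refine hC (C.trace⁻¹ * (e + C.det)) ?_
  have key : C * C = C.trace • C - C.det • 1 := by
    ext i j
    fin_cases i <;> fin_cases j <;>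
      simp [Matrix.mul_apply, Fin.sum_univ_two, Matrix.trace_fin_two, Matrix.det_fin_two] <;> ring
  rw [h] at key
  rw [← smul_smul, eq_inv_smul_iff₀ ht, add_smul]
  exact (eq_sub_iff_add_eq.mp key).symm

theorem trace_of_scalar_cube {C : M2} (hC : ∀ c : F, C ≠ c • 1) {e : F} (h : C * (C * C) = e • 1) :
    C.trace ^ 2 = C.det := by
  by_contra ht
  refine hC ((C.trace ^ 2 - C.det)⁻¹ * (e + C.trace * C.det)) ?_
  have key : C * (C * C) = (C.trace ^ 2 - C.det) • C - (C.trace * C.det) • 1 := by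
    ext i j
    fin_cases i <;> fin_cases j <;>
      simp [Matrix.mul_apply, Fin.sum_univ_two, Matrix.trace_fin_two, Matrix.det_fin_two] <;> ring
  rw [h] at key
  rw [← smul_smul, eq_inv_smul_iff₀ (sub_ne_zero.mpr ht), add_smul]
  exact (eq_sub_iff_add_eq.mp key).symm

theorem cube_eq_of_trace {C : M2} (h : C.trace ^ 2 = C.det) :
    C * (C * C) = (-(C.trace * C.det)) • 1 := by
  have key : C * (C * C) = (C.trace ^ 2 - C.det) • C - (C.trace * C.det) • 1 := by
    ext i j
    fin_cases i <;> fin_cases j <;>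
      simp [Matrix.mul_apply, Fin.sum_univ_two, Matrix.trace_fin_two, Matrix.det_fin_two] <;> ring
  rw [key, h, sub_self, zero_smul, zero_sub, neg_smul]

variable [Finite F]

/-- A subgroup of `GL₂` without unipotent elements, seen in `PSL₂` of the quadratic extension. -/
theorem exists_psl_hom (p : ℕ) [Fact p.Prime] [CharP F p] (hp : p ≠ 2) (D : Subgroup (GL (Fin 2) F))
    (hu : ∀ d ∈ D, ((d : GL (Fin 2) F) : M2).trace = 2 → ((d : GL (Fin 2) F) : M2).det = 1 → d = 1) :
    ∃ (E : Type) (_ : Field E) (_ : Fintype E) (π : D →* Matrix.ProjectiveSpecialLinearGroup (Fin 2) E),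
      (∀ d : D, π d = 1 ↔ ∃ c : F, ((d : GL (Fin 2) F) : M2) = c • 1) ∧
      (∀ d : D, π d ≠ 1 → ¬ IsUni (π d)) ∧
      (∀ (g : Matrix.ProjectiveSpecialLinearGroup (Fin 2) E) (a b : D),
        g * π a * g⁻¹ ∈ borel E → g * π b * g⁻¹ ∈ borel E →
          (((a * b * a⁻¹ * b⁻¹ : D) : GL (Fin 2) F) : M2).trace = 2) := by
  classical
  haveI := Fintype.ofFinite F
  obtain ⟨n, -, hn⟩ := FiniteField.card F p
  have hn2 : 2 * (n : ℕ) ≠ 0 := by have := n.pos; omega
  let E := GaloisField p (2 * n)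
  let iE : Fintype E := Fintype.ofFinite _
  have hEc : Fintype.card F ^ 2 = Fintype.card E := by
    rw [← Nat.card_eq_fintype_card (α := E), GaloisField.card p _ hn2, hn, ← pow_mul, mul_comm]
  obtain ⟨ι⟩ := exists_ringHom (K := F) (F := E) one_le_two hEc
  have h2F : (2 : F) ≠ 0 := Dickson.two_ne_zero_of_char p hp
  have h2E : ringChar E ≠ 2 := by rw [ringChar.eq E p]; exact hp
  have hq : Odd (Fintype.card F) := by
    rw [hn]; exact ((Fact.out : p.Prime).odd_of_ne_two hp).pow
  have hsq : ∀ x : F, x ≠ 0 → IsSquare (ι x) := fun x hx => by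
    rw [FiniteField.isSquare_iff h2E (by simpa using hx), ← map_pow, ← map_one ι]
    congr 1
    obtain ⟨k, hk⟩ := hq
    have e : Fintype.card E / 2 = (Fintype.card F - 1) * (k + 1) := by
      rw [← hEc, hk, Nat.add_sub_cancel]
      have : (2 * k + 1) ^ 2 = 2 * (2 * k * (k + 1)) + 1 := by ring
      omega
    rw [e, pow_mul, FiniteField.pow_card_sub_one_eq_one x hx, one_pow]
  let R : D → Matrix.ProjectiveSpecialLinearGroup (Fin 2) E → Prop := fun d x =>
    ∃ (s : Matrix.SpecialLinearGroup (Fin 2) E) (e : E), proj s = x ∧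
      ((d : GL (Fin 2) F) : M2).map ι = e • (s : Matrix (Fin 2) (Fin 2) E)
  have hdet : ∀ (d : D) {e : E} {s : Matrix.SpecialLinearGroup (Fin 2) E},
      ((d : GL (Fin 2) F) : M2).map ι = e • (s : Matrix (Fin 2) (Fin 2) E) → e ^ 2 = ι ((d : GL (Fin 2) F) : M2).det ∧ e ≠ 0 := by
    intro d e s he
    have h1 : e ^ 2 = ι ((d : GL (Fin 2) F) : M2).det := by
      rw [RingHom.map_det, RingHom.mapMatrix_apply, he, Matrix.det_smul, s.2, Fintype.card_fin, mul_one]
    refine ⟨h1, fun h0 => ?_⟩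
    rw [h0, zero_pow two_ne_zero, eq_comm, map_eq_zero] at h1
    exact Matrix.GeneralLinearGroup.det_ne_zero (d : GL (Fin 2) F) h1
  have huniq : ∀ d x y, R d x → R d y → x = y := by
    rintro d _ _ ⟨s, e, rfl, he⟩ ⟨t, f, rfl, hf⟩
    obtain ⟨h1, h0⟩ := hdet d he
    obtain ⟨h1', -⟩ := hdet d hf
    have hts : (s : Matrix (Fin 2) (Fin 2) E) = (e⁻¹ * f) • (t : Matrix (Fin 2) (Fin 2) E) := by
      rw [← smul_smul, ← hf, he, smul_smul, inv_mul_cancel₀ h0, one_smul]
    rw [proj_eq_iff]
    rcases eq_or_eq_neg_of_sq_eq_sq e f (h1.trans h1'.symm) with h | h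
    · left
      rw [← h, inv_mul_cancel₀ h0, one_smul] at hts
      exact (Subtype.ext hts).symm
    · right
      rw [show f = -e by rw [h, neg_neg], mul_neg, inv_mul_cancel₀ h0, neg_smul, one_smul] at hts
      exact Subtype.ext (by
        show (t : Matrix (Fin 2) (Fin 2) E) = ((-s : Matrix.SpecialLinearGroup (Fin 2) E) : Matrix (Fin 2) (Fin 2) E)
        rw [Matrix.SpecialLinearGroup.coe_neg, hts, neg_neg])
  have hex : ∀ d, ∃ x, R d x := fun d => by
    have hd := Matrix.GeneralLinearGroup.det_ne_zero (d : GL (Fin 2) F)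
    obtain ⟨e, he⟩ := hsq _ hd
    have he0 : e ≠ 0 := fun h0 => by rw [h0, mul_zero, map_eq_zero] at he; exact hd he
    refine ⟨_, ⟨e⁻¹ • ((d : GL (Fin 2) F) : M2).map ι, ?_⟩, e, rfl, ?_⟩
    · rw [Matrix.det_smul, Fintype.card_fin, ← RingHom.mapMatrix_apply, ← RingHom.map_det, he, ← sq, ← mul_pow,
        inv_mul_cancel₀ he0, one_pow]
    · show _ = e • (e⁻¹ • ((d : GL (Fin 2) F) : M2).map ι)
      rw [smul_smul, mul_inv_cancel₀ he0, one_smul]
  choose π₀ hπ₀ using hex
  let π : D →* Matrix.ProjectiveSpecialLinearGroup (Fin 2) E :=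
    { toFun := π₀
      map_one' := huniq 1 _ _ (hπ₀ 1) ⟨1, 1, map_one _, by simp⟩
      map_mul' := fun a b => by
        obtain ⟨s, e, hs, he⟩ := hπ₀ a
        obtain ⟨t, f, ht, hf⟩ := hπ₀ b
        refine huniq _ _ _ (hπ₀ _) ⟨s * t, e * f, by rw [map_mul, hs, ht], ?_⟩
        rw [Subgroup.coe_mul, Units.val_mul, Matrix.map_mul, he, hf, smul_mul_assoc, mul_smul_comm,
          smul_smul, Matrix.SpecialLinearGroup.coe_mul] }
  have hker : ∀ d : D, π d = 1 ↔ ∃ c : F, ((d : GL (Fin 2) F) : M2) = c • 1 := by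
    intro d
    obtain ⟨s, e, hs, he⟩ := hπ₀ d
    show π₀ d = 1 ↔ _
    rw [← hs, proj_eq_one_iff]
    obtain ⟨-, h0⟩ := hdet d he
    have h00 := congrFun (congrFun he 0) 0
    have h01 := congrFun (congrFun he 0) 1
    have h10 := congrFun (congrFun he 1) 0
    have h11 := congrFun (congrFun he 1) 1
    simp only [Matrix.map_apply, Matrix.smul_apply, smul_eq_mul] at h00 h01 h10 h11
    constructor
    · rintro ⟨a, b, c⟩
      rw [a, mul_zero, map_eq_zero] at h01
      rw [b, mul_zero, map_eq_zero] at h10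
      rw [c, ← h11, ι.injective.eq_iff] at h00
      refine ⟨((d : GL (Fin 2) F) : M2) 0 0, ?_⟩
      ext i j
      fin_cases i <;> fin_cases j <;> simp [h01, h10, h00]
    · rintro ⟨c, hc⟩
      rw [hc] at h00 h01 h10 h11
      simp at h00 h01 h10 h11
      refine ⟨h01.resolve_left h0, h10.resolve_left h0, ?_⟩
      exact mul_left_cancel₀ h0 (h00.symm.trans h11)
  have hmt : ∀ M : M2, ι M.trace = (M.map ι).trace := fun M => by simp [Matrix.trace_fin_two]
  refine ⟨E, inferInstance, iE, π, hker, fun d hd => ?_, fun g a b ha hb => ?_⟩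
  · -- no unipotent type
    obtain ⟨s, e, hs, he⟩ := hπ₀ d
    intro hU
    have hsU : IsUni (proj s) := hs ▸ hU
    rw [isUni_proj] at hsU
    obtain ⟨h1, h0⟩ := hdet d he
    have htd : ((d : GL (Fin 2) F) : M2).trace ^ 2 = 4 * ((d : GL (Fin 2) F) : M2).det := ι.injective (by
      rw [map_pow, map_mul, map_ofNat, ← h1, hmt]
      show (((d : GL (Fin 2) F) : M2).map ι).trace ^ 2 = _
      rw [he, Matrix.trace_smul, smul_eq_mul, mul_pow, hsU]
      ring)
    set t := ((d : GL (Fin 2) F) : M2).trace / 2 with htdef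
    have hdd : ((d : GL (Fin 2) F) : M2).det = t ^ 2 := by rw [htdef]; field_simp; linear_combination -htd
    have ht0 : t ≠ 0 := fun h0 => Matrix.GeneralLinearGroup.det_ne_zero (d : GL (Fin 2) F)
      (by rw [hdd, h0, zero_pow two_ne_zero])
    set N : M2 := t⁻¹ • ((d : GL (Fin 2) F) : M2) - 1 with hNdef
    have hdN : ((d : GL (Fin 2) F) : M2) = t • (1 + N) := by
      rw [hNdef, add_sub_cancel, smul_smul, mul_inv_cancel₀ ht0, one_smul]
    have hNN : N * N = 0 := by
      have htr : ((d : GL (Fin 2) F) : M2) 0 0 + ((d : GL (Fin 2) F) : M2) 1 1 = 2 * t := by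
        rw [htdef, ← Matrix.trace_fin_two]; field_simp
      have hde := hdd
      rw [Matrix.det_fin_two] at hde
      ext i j
      fin_cases i <;> fin_cases j <;> simp [hNdef, Matrix.mul_apply, Fin.sum_univ_two] <;> field_simp
      · linear_combination (((d : GL (Fin 2) F) : M2) 0 0) * htr - hde
      · linear_combination (((d : GL (Fin 2) F) : M2) 0 1) * htr
      · linear_combination (((d : GL (Fin 2) F) : M2) 1 0) * htr
      · linear_combination (((d : GL (Fin 2) F) : M2) 1 1) * htr - hde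
    have hpow : (((d ^ (Fintype.card F - 1) : D) : GL (Fin 2) F) : M2) = 1 - N := by
      rw [SubmonoidClass.coe_pow, Units.val_pow_eq_pow_val, hdN, smul_pow,
        FiniteField.pow_card_sub_one_eq_one t ht0, one_smul, one_add_pow_two hNN,
        Nat.cast_sub Fintype.card_pos, Nat.cast_one,
        show ((Fintype.card F : ℕ) : F) = 0 from FiniteField.cast_card_eq_zero F]
      module
    have hN : N.trace = 0 := by
      rw [hNdef, Matrix.trace_sub, Matrix.trace_smul, Matrix.trace_one, Fintype.card_fin, smul_eq_mul,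
        show ((d : GL (Fin 2) F) : M2).trace = 2 * t by rw [htdef]; field_simp]
      push_cast
      field_simp
      ring
    have hd1 := hu _ (d ^ (Fintype.card F - 1)).2
      (by rw [hpow, Matrix.trace_sub, hN, Matrix.trace_one, Fintype.card_fin]; simp)
      (by
        rw [hpow]
        have h00 := congrFun (congrFun hNN 0) 0
        rw [Matrix.trace_fin_two] at hN
        simp [Matrix.mul_apply, Fin.sum_univ_two] at h00
        simp [Matrix.det_fin_two]
        linear_combination (-1 + N 0 0) * hN - h00)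
    rw [hd1, Units.val_one] at hpow
    have hN0 : N = 0 := by
      have := sub_eq_self.mp hpow.symm
      exact this
    exact hd ((hker d).mpr ⟨t, by rw [hdN, hN0, add_zero]⟩)
  · -- commutators in a Borel subgroup
    obtain ⟨s, e, hs, he⟩ := hπ₀ a
    obtain ⟨u, f, hu', hf⟩ := hπ₀ b
    obtain ⟨c, rfl⟩ := proj_surjective g
    rw [show π a = proj s from hs.symm, ← map_inv, ← map_mul, ← map_mul, mem_borel_proj] at ha
    rw [show π b = proj u from hu'.symm, ← map_inv, ← map_mul, ← map_mul, mem_borel_proj] at hb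
    set K := a * b * a⁻¹ * b⁻¹
    have hK : ((K : GL (Fin 2) F) : M2).map ι = ((s * u * s⁻¹ * u⁻¹ : Matrix.SpecialLinearGroup (Fin 2) E) :
        Matrix (Fin 2) (Fin 2) E) := by
      obtain ⟨-, he0⟩ := hdet a he
      obtain ⟨-, hf0⟩ := hdet b hf
      have e1 : K * (b * a) = a * b := by simp only [K]; group
      have e2 := congrArg (fun x : D => ((x : GL (Fin 2) F) : M2).map ι) e1
      simp only [Subgroup.coe_mul, Units.val_mul, Matrix.map_mul, he, hf, smul_mul_assoc,
        mul_smul_comm, smul_smul, mul_comm f e] at e2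
      have e3 := smul_right_injective _ (mul_ne_zero he0 hf0) e2
      have e4 := congrArg (· * ((s⁻¹ * u⁻¹ : Matrix.SpecialLinearGroup (Fin 2) E) :
        Matrix (Fin 2) (Fin 2) E)) e3
      simp only [← Matrix.SpecialLinearGroup.coe_mul, mul_assoc] at e4
      simpa [mul_assoc] using e4
    have htr : ∀ y z : Matrix.SpecialLinearGroup (Fin 2) E,
        (y : Matrix (Fin 2) (Fin 2) E) 1 0 = 0 → (z : Matrix (Fin 2) (Fin 2) E) 1 0 = 0 →
        ((y * z * y⁻¹ * z⁻¹ : Matrix.SpecialLinearGroup (Fin 2) E) :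
          Matrix (Fin 2) (Fin 2) E).trace = 2 := by
      intro y z hy hz
      have dy := y.2
      have dz := z.2
      rw [Matrix.det_fin_two, hy, mul_zero, sub_zero] at dy
      rw [Matrix.det_fin_two, hz, mul_zero, sub_zero] at dz
      simp [Matrix.trace_fin_two, Matrix.mul_apply, Fin.sum_univ_two, Matrix.adjugate_fin_two,
        Matrix.SpecialLinearGroup.coe_inv, hy, hz]
      linear_combination 2 * (z.1 0 0 * z.1 1 1) * dy + 2 * dz
    have h3 := htr _ _ ha hb
    rw [show c * s * c⁻¹ * (c * u * c⁻¹) * (c * s * c⁻¹)⁻¹ * (c * u * c⁻¹)⁻¹ =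
      c * (s * u * s⁻¹ * u⁻¹) * c⁻¹ by group, Matrix.SpecialLinearGroup.coe_mul, Matrix.trace_mul_comm,
      ← Matrix.SpecialLinearGroup.coe_mul, inv_mul_cancel_left, ← hK] at h3
    apply ι.injective
    rw [map_ofNat, hmt]
    exact h3

/-- The structure of a pair of homologies seen on their plane. -/
theorem plane_cases (p : ℕ) [Fact p.Prime] [CharP F p] (hp : p ≠ 2) (D : Subgroup (GL (Fin 2) F))
    (hu : ∀ d ∈ D, ((d : GL (Fin 2) F) : M2).trace = 2 → ((d : GL (Fin 2) F) : M2).det = 1 → d = 1) {A B : GL (Fin 2) F}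
    (hA : A ∈ D) (hB : B ∈ D) {μ : F} (hn : 3 ≤ orderOf μ)
    (hdA : (A : M2).det = μ) (hdB : (B : M2).det = μ) (htA : (A : M2).trace ≠ 0)
    (hAn : A ^ orderOf μ = 1) (hBn : B ^ orderOf μ = 1)
    (hAs : ∀ (k : ℕ) (c : F), ((A ^ k : GL (Fin 2) F) : M2) = c • 1 → μ ^ k = 1)
    (hBs : ∀ (k : ℕ) (c : F), ((B ^ k : GL (Fin 2) F) : M2) = c • 1 → μ ^ k = 1)
    (hK : ((A * B * A⁻¹ * B⁻¹ : GL (Fin 2) F) : M2).trace ≠ 2) :
    orderOf μ ≤ 5 ∧
    (orderOf μ = 5 → ∃ z ∈ D, ∃ ζ : F, orderOf ζ = 10 ∧ ((z : GL (Fin 2) F) : M2) = ζ • 1) ∧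
    (orderOf μ = 4 → ((A : M2) * B).trace ^ 2 = ((A : M2) * B).det) ∧
    (orderOf μ = 3 → ((A : M2) * B).trace ^ 2 = ((A : M2) * B).det ∨
      ∃ z ∈ D, ∃ ζ : F, orderOf ζ = 6 ∧ ((z : GL (Fin 2) F) : M2) = ζ • 1) := by
  classical
  obtain ⟨E, _, _, π, hker, huni, hbor⟩ := exists_psl_hom p hp D hu
  have h2 : (2 : F) ≠ 0 := Dickson.two_ne_zero_of_char p hp
  set n := orderOf μ with hndef
  set a : D := ⟨A, hA⟩
  set b : D := ⟨B, hB⟩
  have hμ2 : μ ^ 2 ≠ 1 := fun h => by
    have := Nat.le_of_dvd two_pos (orderOf_dvd_of_pow_eq_one h); omega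
  have ord : ∀ (C : GL (Fin 2) F) (hC : C ∈ D), C ^ n = 1 →
      (∀ (k : ℕ) (c : F), ((C ^ k : GL (Fin 2) F) : M2) = c • 1 → μ ^ k = 1) →
      orderOf (π ⟨C, hC⟩) = n := by
    intro C hC h1 h2'
    refine Nat.dvd_antisymm (orderOf_dvd_of_pow_eq_one ?_) (orderOf_dvd_of_pow_eq_one ?_)
    · rw [← map_pow, show (⟨C, hC⟩ : D) ^ n = 1 from Subtype.ext h1, map_one]
    · have := pow_orderOf_eq_one (π ⟨C, hC⟩)
      rw [← map_pow, hker] at this
      obtain ⟨c, hc⟩ := this
      exact h2' _ c hc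
  have hoa : orderOf (π a) = n := ord A hA hAn hAs
  have hob : orderOf (π b) = n := ord B hB hBn hBs
  have hab : π a * π b ≠ π b * π a := by
    intro h
    have hK1 : π (a * b * a⁻¹ * b⁻¹) = 1 := by
      rw [map_mul, map_mul, map_mul, map_inv, map_inv, h, mul_inv_cancel_right, mul_inv_cancel]
    obtain ⟨c, hc⟩ := (hker _).mp hK1
    have hd := congrArg Matrix.det hc
    simp [Matrix.det_smul, a, b] at hd
    have hμ0 : μ ≠ 0 := fun h => by rw [h, orderOf_zero] at hndef; omega
    rw [hdA, hdB] at hd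
    field_simp at hd
    rcases sq_eq_one_iff.mp hd.symm with rfl | rfl
    · exact hK (by
        rw [show ((A * B * A⁻¹ * B⁻¹ : GL (Fin 2) F) : M2) = ((1 : F) • 1 : M2) from hc]
        simp)
    · have e1 : (((a * b * a⁻¹ * b⁻¹ : D) : GL (Fin 2) F) : M2) * (((b * a * b⁻¹ : D) : GL (Fin 2) F) : M2) = (((a : D) : GL (Fin 2) F) : M2) := by
        rw [← Units.val_mul, ← Subgroup.coe_mul, show a * b * a⁻¹ * b⁻¹ * (b * a * b⁻¹) = a by group]
      rw [hc, smul_mul_assoc, one_mul] at e1
      have e2 := congrArg Matrix.trace e1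
      rw [Matrix.trace_smul, Subgroup.coe_mul, Subgroup.coe_mul, Units.val_mul, Units.val_mul,
        Subgroup.coe_inv, Matrix.trace_mul_comm, ← mul_assoc, Units.inv_mul, one_mul] at e2
      exact htA (by
        have : (2 : F) * (A : M2).trace = 0 := by
          simp only [smul_eq_mul] at e2
          linear_combination -e2
        exact (mul_eq_zero.mp this).resolve_left h2)
  set H := π.range
  have hH : ∀ x : H, x ≠ 1 → ¬ IsUni (x : Matrix.ProjectiveSpecialLinearGroup (Fin 2) E) := by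
    rintro ⟨_, d, rfl⟩ hx
    exact huni d fun h => hx (Subtype.ext h)
  set x : H := ⟨π a, a, rfl⟩
  set y : H := ⟨π b, b, rfl⟩
  have hox : orderOf x = n := by rw [← Subgroup.orderOf_coe]; exact hoa
  have hoy : orderOf y = n := by rw [← Subgroup.orderOf_coe]; exact hob
  have hxy : x * y ≠ y * x := fun h => hab (congrArg Subtype.val h)
  have hns : ∀ c : F, (A : M2) * B ≠ c • 1 := by
    intro c hc
    have h1 : π (a * b) = 1 := (hker _).mpr ⟨c, by simpa [a, b] using hc⟩
    rw [map_mul, mul_eq_one_iff_eq_inv] at h1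
    exact hab (by rw [h1, inv_mul_cancel, mul_inv_cancel])
  have back : ∀ k : ℕ, (x * y) ^ k = 1 → ∃ c : F, (((A * B) ^ k : GL (Fin 2) F) : M2) = c • 1 := by
    intro k hk
    have h1 : π ((a * b) ^ k) = 1 := by
      rw [map_pow, map_mul]; exact congrArg Subtype.val hk
    exact (hker _).mp h1
  have back3 : (x * y) ^ 3 = 1 → ((A : M2) * B).trace ^ 2 = ((A : M2) * B).det := fun h => by
    obtain ⟨c, hc⟩ := back 3 h
    exact trace_of_scalar_cube hns (e := c) (by simpa [pow_three] using hc)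
  have back2 : (x * y) ^ 2 = 1 → n = 3 →
      ∃ z ∈ D, ∃ ζ : F, orderOf ζ = 6 ∧ ((z : GL (Fin 2) F) : M2) = ζ • 1 := fun h h3 => by
    obtain ⟨c, hc⟩ := back 2 h
    have hc' : ((A : M2) * B) * ((A : M2) * B) = c • 1 := by simpa [pow_two] using hc
    have h0 := trace_of_scalar_sq hns hc'
    have hsqr : ((A : M2) * B) * ((A : M2) * B) = (-(μ ^ 2)) • 1 := by
      have key : ((A : M2) * B) * ((A : M2) * B) =
          ((A : M2) * B).trace • ((A : M2) * B) - ((A : M2) * B).det • 1 := by
        ext i j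
        fin_cases i <;> fin_cases j <;>
          simp [Matrix.mul_apply, Fin.sum_univ_two, Matrix.trace_fin_two, Matrix.det_fin_two] <;> ring
      rw [key, h0, zero_smul, zero_sub, Matrix.det_mul, hdA, hdB, neg_smul, ← sq]
    refine ⟨(A * B) * (A * B), D.mul_mem (D.mul_mem hA hB) (D.mul_mem hA hB), -(μ ^ 2), ?_, by
      simpa using hsqr⟩
    have hμ3 : μ ^ 3 = 1 := h3 ▸ pow_orderOf_eq_one μ
    rcases exists_order_double h2 Nat.prime_three (by norm_num) h3 (ζ := μ ^ 2)
      (by linear_combination μ * hμ3) with h6 | h6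
    · exfalso
      have := orderOf_dvd_of_pow_eq_one (show (μ ^ 2) ^ 3 = 1 by linear_combination (μ ^ 3 + 1) * hμ3)
      rw [h6] at this
      norm_num at this
    · exact h6
  rcases shape_of_no_uni hH with hbo | htor | ⟨⟨f⟩⟩ | ⟨⟨f⟩⟩ | ⟨⟨f⟩⟩ | hsub
  · obtain ⟨g, hg⟩ := hbo
    exact absurd (hbor g a b (hg _ x.2) (hg _ y.2)) hK
  · exfalso
    obtain ⟨c, hc, hle⟩ := htor
    have mem : ∀ z : H, orderOf z = n → (z : Matrix.ProjectiveSpecialLinearGroup (Fin 2) E) ∈ cen c := by
      intro z hz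
      refine (normalizer_cases hc (Subgroup.mem_normalizer_iff.mp (hle z.2))).resolve_right fun h => ?_
      have : orderOf z ∣ 2 := orderOf_dvd_of_pow_eq_one (by rw [pow_two]; exact Subtype.ext h.1)
      have := Nat.le_of_dvd two_pos this
      omega
    exact hxy (Subtype.ext (cen_comm (ne_one_of_not_isUni hc) (mem x hox) (mem y hoy)))
  case inr.inr.inr.inr.inr =>
    exfalso
    obtain ⟨K, _, _, j, g, w, hk⟩ := hsub
    have hmem : g * proj (scHom j w (upSL 1)) * g⁻¹ ∈ H := by
      have h0 : proj (scHom j w (upSL 1)) ∈ pslSub j w := ⟨upSL 1, rfl⟩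
      rcases hk with hk | ⟨lam, ν, -, -, hk⟩
      · rw [hk]; exact conj_mem_map_conj h0
      · rw [hk]; exact conj_mem_map_conj (pslSub_le_pglSub j w lam h0)
    have h1 : proj (scHom j w (upSL 1)) ≠ 1 := fun h => by
      rw [proj_eq_one_iff, scHom_coe, isScalarTwo_scMat] at h
      exact not_isScalarTwo_upSL one_ne_zero h
    refine hH ⟨_, hmem⟩ (fun h => h1 (conj_eq_one_iff.mp (congrArg Subtype.val h))) ?_
    rw [isUni_conj, isUni_proj, scHom_coe]
    simp [scMat, upSL_coe, Matrix.trace_fin_two]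
    norm_num
  case inr.inr.inr.inr.inl =>
    -- `A₅`
    have hn35 : n = 3 ∨ n = 5 := by
      have hq : ∀ k, ((f x : alternatingGroup (Fin 5)) : Equiv.Perm (Fin 5)) ^ k = 1 → n ∣ k :=
        fun k hk => hox ▸ orderOf_dvd_of_pow_eq_one (f.injective (Subtype.ext (by simpa using hk)))
      rcases altFive_order _ (f x).2 with h | h | h
      · exact absurd (Nat.le_of_dvd two_pos (hq 2 h)) (by omega)
      · left; exact ((Nat.dvd_prime Nat.prime_three).mp (hq 3 h)).resolve_left (by omega)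
      · right; exact ((Nat.dvd_prime (by norm_num)).mp (hq 5 h)).resolve_left (by omega)
    have hperf : commutator H = ⊤ := by
      have e1 : ⁅(⊤ : Subgroup (alternatingGroup (Fin 5))), ⊤⁆ = ⊤ :=
        commutator_alternatingGroup_eq_top (by simp)
      have := congrArg (Subgroup.map f.symm.toMonoidHom) e1
      rwa [Subgroup.map_commutator, ← MonoidHom.range_eq_map,
        MonoidHom.range_eq_top.mpr f.symm.surjective] at this
    have hcom : ∀ z : H, ∃ k : D, ((k : GL (Fin 2) F) : M2).det = 1 ∧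
        π k = (z : Matrix.ProjectiveSpecialLinearGroup (Fin 2) E) := by
      intro z
      have hz : z ∈ commutator H := hperf ▸ Subgroup.mem_top z
      have : commutator H = (commutator D).map π.rangeRestrict := by
        rw [commutator_def, commutator_def, Subgroup.map_commutator, ← MonoidHom.range_eq_map,
          MonoidHom.range_eq_top.mpr π.rangeRestrict_surjective]
      rw [this] at hz
      obtain ⟨k, hk, hkz⟩ := hz
      refine ⟨k, ?_, congrArg Subtype.val hkz⟩
      have hle : commutator D ≤ ((Matrix.GeneralLinearGroup.det).comp D.subtype).ker := by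
        rw [commutator_def, Subgroup.commutator_le]
        intro u _ v _
        rw [MonoidHom.mem_ker, map_commutatorElement, commutatorElement_def]
        rw [mul_comm (Matrix.GeneralLinearGroup.det.comp D.subtype u), mul_inv_cancel_right,
          mul_inv_cancel]
      have := hle hk
      rw [MonoidHom.mem_ker, Units.ext_iff] at this
      simpa using this
    obtain ⟨k, hkd, hkx⟩ := hcom x
    obtain ⟨u, hud, huy⟩ := hcom (f.symm dblSwap)
    have hu1 : π u ≠ 1 := fun h => by
      rw [huy] at h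
      have h' := (MulEquiv.map_eq_one_iff f.symm).mp (Subtype.ext h)
      exact absurd (congrArg (fun z : alternatingGroup (Fin 5) => (z : Equiv.Perm (Fin 5)) 0) h') (by simp [dblSwap, Equiv.swap_apply_def])
    have hu2 : π (u * u) = 1 := by
      rw [map_mul, huy, ← Subgroup.coe_mul, ← map_mul]
      rw [show (dblSwap *
        dblSwap) = 1 from Subtype.ext (by simp only [dblSwap, Subgroup.coe_mul, Subgroup.coe_one]; decide), map_one]
      rfl
    obtain ⟨e, he⟩ := (hker _).mp hu2
    have hneg : (((u * u : D) : GL (Fin 2) F) : M2) = (-1 : F) • 1 := by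
      have hd := congrArg Matrix.det he
      simp [hud, Matrix.det_smul] at hd
      rcases sq_eq_one_iff.mp hd.symm with rfl | rfl
      · exfalso
        apply hu1
        rw [hker]
        have he' : ((u : GL (Fin 2) F) : M2) * ((u : GL (Fin 2) F) : M2) = (1 : F) • 1 := by simpa using he
        by_contra hns'
        push Not at hns'
        have h0 := trace_of_scalar_sq hns' he'
        have key : ((u : GL (Fin 2) F) : M2) * ((u : GL (Fin 2) F) : M2) = ((u : GL (Fin 2) F) : M2).trace • ((u : GL (Fin 2) F) : M2) - ((u : GL (Fin 2) F) : M2).det • 1 := by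
          ext i j
          fin_cases i <;> fin_cases j <;>
            simp [Matrix.mul_apply, Fin.sum_univ_two, Matrix.trace_fin_two, Matrix.det_fin_two] <;> ring
        rw [he', h0, hud, zero_smul, zero_sub, one_smul] at key
        have := congrFun (congrFun key 0) 0
        simp at this
        exact h2 (by linear_combination this)
      · exact he
    have hz : π (a * k⁻¹) = 1 := by rw [map_mul, map_inv, hkx, mul_inv_cancel]
    obtain ⟨ζ, hζ⟩ := (hker _).mp hz
    have hζ2 : ζ ^ 2 = μ := by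
      have hd := congrArg Matrix.det hζ
      simp [hkd, Matrix.det_smul, a, hdA] at hd
      exact hd.symm
    have hsc : ∀ hp' : n.Prime, n ≠ 2 →
        ∃ z ∈ D, ∃ η : F, orderOf η = 2 * n ∧ ((z : GL (Fin 2) F) : M2) = η • 1 := by
      intro hp' hne
      rcases exists_order_double h2 hp' hne rfl hζ2 with h | h
      · exact ⟨_, (a * k⁻¹).2, ζ, h, hζ⟩
      · refine ⟨_, (a * k⁻¹ * (u * u)).2, -ζ, h, ?_⟩
        rw [Subgroup.coe_mul, Units.val_mul, hζ, hneg, smul_mul_assoc, one_mul, smul_smul, mul_neg_one]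
    rcases hn35 with h | h
    · obtain ⟨z, hz', η, hη, e'⟩ := hsc (h ▸ Nat.prime_three) (by omega)
      exact ⟨by omega, fun h' => by omega, fun h' => by omega,
        fun _ => Or.inr ⟨z, hz', η, by rw [hη, h], e'⟩⟩
    · obtain ⟨z, hz', η, hη, e'⟩ := hsc (h ▸ by norm_num) (by omega)
      exact ⟨by omega, fun _ => ⟨z, hz', η, by rw [hη, h], e'⟩, fun h' => by omega, fun h' => by omega⟩
  all_goals
    -- `A₄` or `S₄`
    obtain ⟨φ, hφ⟩ : ∃ φ : H →* Equiv.Perm (Fin 4), Function.Injective φ := by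
      first
        | exact ⟨f.toMonoidHom, f.injective⟩
        | exact ⟨(alternatingGroup (Fin 4)).subtype.comp f.toMonoidHom,
            Subtype.val_injective.comp f.injective⟩
    have hxy' : φ x * φ y ≠ φ y * φ x := fun h => hxy (hφ (by rw [map_mul, map_mul, h]))
    have ex : ∀ (z : H) (k : ℕ), φ z ^ k = 1 ↔ z ^ k = 1 := fun z k => by
      rw [← map_pow, map_eq_one_iff φ hφ]
    have hn34 : n = 3 ∨ n = 4 := by
      rcases symFour_order (φ x) with h | h <;> rw [ex] at h <;>
        have hd := hox ▸ orderOf_dvd_of_pow_eq_one h <;>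
        have hle := Nat.le_of_dvd (by norm_num) hd <;>
        interval_cases n <;> omega
    rcases hn34 with h | h
    · refine ⟨by omega, fun h' => by omega, fun h' => by omega, fun _ => ?_⟩
      rcases symFour_three (φ x) (φ y) ((ex _ _).mpr (by rw [← h, ← hox]; exact pow_orderOf_eq_one x))
        ((ex _ _).mpr (by rw [← h, ← hoy]; exact pow_orderOf_eq_one y)) hxy' with h' | h' <;>
        rw [← map_mul, ex] at h'
      · exact Or.inr (back2 h' h)
      · exact Or.inl (back3 h')
    · refine ⟨by omega, fun h' => by omega, fun _ => ?_, fun h' => by omega⟩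
      have hno : ∀ z : H, orderOf z = n → φ z ^ 4 = 1 ∧ φ z ^ 2 ≠ 1 := fun z hz =>
        ⟨(ex _ _).mpr (by rw [← h, ← hz]; exact pow_orderOf_eq_one z), fun e => by
          have := Nat.le_of_dvd two_pos (orderOf_dvd_of_pow_eq_one ((ex _ _).mp e)); omega⟩
      have h' := symFour_four (φ x) (φ y) (hno x hox).1 (hno x hox).2 (hno y hoy).1 (hno y hoy).2 hxy'
      rw [← map_mul, ex] at h'
      exact back3 h'

end Cfsg.Agent.Linear.Mitchell.Homology
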