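import Cfsg.Agent.Linear.Mitchell.HomologyBase
import Cfsg.Agent.Linear.Mitchell.HomologyPlane

/-!
Two homologies in general position, seen on their common invariant plane.
-/

set_option autoImplicit false

namespace Cfsg.Agent.Linear.Mitchell.Homology

open scoped MatrixGroups Matrix
open Cfsg.Geo
open Matrix (vecMulVec)

variable {F : Type*} [Field F]

local notation "M3" => Matrix (Fin 3) (Fin 3) F
local notation "M2" => Matrix (Fin 2) (Fin 2) F

/-- The idempotent complementary to the plane of two idempotents. -/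
def axisPr (E E' : M3) : M3 := 1 - (1 - (E * E').trace)⁻¹ • (E + E' - E * E' - E' * E)

theorem orderOf_inv_field (x : F) : orderOf x⁻¹ = orderOf x := by
  apply Nat.dvd_antisymm <;> apply orderOf_dvd_of_pow_eq_one
  · rw [inv_pow, pow_orderOf_eq_one, inv_one]
  · rw [← inv_eq_one, ← inv_pow, pow_orderOf_eq_one]

theorem orth_axisPr {E E' : M3} (hE : IsPr E) (hE' : IsPr E') (hc : (E * E').trace ≠ 1) :
    Orth E (axisPr E E') ∧ Orth E' (axisPr E E') := by
  have h1 : 1 - (E * E').trace ≠ 0 := sub_ne_zero.mpr (Ne.symm hc)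
  have s1 : E * (E' * E) = (E * E').trace • E := by rw [← mul_assoc]; exact hE.sandwich E'
  have s2 : E' * (E * E') = (E * E').trace • E' := by
    rw [← mul_assoc, hE'.sandwich E, Matrix.trace_mul_comm]
  have i1 : ∀ X : M3, E * (E * X) = E * X := fun X => by rw [← mul_assoc, hE.idem]
  have i2 : ∀ X : M3, E' * (E' * X) = E' * X := fun X => by rw [← mul_assoc, hE'.idem]
  refine ⟨⟨?_, ?_⟩, ⟨?_, ?_⟩⟩ <;>
    simp only [axisPr, mul_sub, mul_add, sub_mul, add_mul, mul_one, one_mul, mul_smul_comm,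
      smul_mul_assoc, mul_assoc, hE.idem, hE'.idem, i1, i2, s1, s2] <;>
    match_scalars <;> field_simp <;> ring

theorem exists_rank_one_two {N : M2} (ht : N.trace = 0) (hd : N.det = 0) :
    ∃ u χ : Fin 2 → F, χ ⬝ᵥ u = 0 ∧ N = vecMulVec u χ := by
  rw [Matrix.trace_fin_two] at ht
  rw [Matrix.det_fin_two] at hd
  by_cases h01 : N 0 1 = 0
  · by_cases h10 : N 1 0 = 0
    · have h00 : N 0 0 = 0 := by
        have : N 0 0 ^ 2 = 0 := by linear_combination (N 0 0) * ht - hd - (N 1 0) * h01
        exact eq_zero_of_pow_eq_zero this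
      have h11 : N 1 1 = 0 := by linear_combination ht - h00
      refine ⟨0, 0, by simp, ?_⟩
      ext i j
      fin_cases i <;> fin_cases j <;> simp [h00, h01, h10, h11]
    · refine ⟨![N 0 0, N 1 0], ![1, N 1 1 / N 1 0], ?_, ?_⟩
      · simp [dotProduct, Fin.sum_univ_two]
        field_simp
        exact ht
      · ext i j
        fin_cases i <;> fin_cases j <;> simp [Matrix.vecMulVec_apply]
        · field_simp
          linear_combination -hd
        · field_simp
  · refine ⟨![N 0 1, N 1 1], ![N 0 0 / N 0 1, 1], ?_, ?_⟩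
    · simp [dotProduct, Fin.sum_univ_two]
      field_simp
      exact ht
    · ext i j
      fin_cases i <;> fin_cases j <;> simp [Matrix.vecMulVec_apply]
      · field_simp
      · field_simp
        linear_combination -hd

theorem one_add_idem_pow {e : M2} (h : e * e = e) (μ : F) (k : ℕ) :
    (1 + (μ - 1) • e) ^ k = 1 + (μ ^ k - 1) • e := by
  induction k with
  | zero => simp
  | succ k ih =>
    rw [pow_succ, ih, mul_add, add_mul, add_mul]
    simp only [smul_mul_assoc, mul_smul_comm, h, one_mul, mul_one, smul_smul, pow_succ]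
    module

variable [Finite F] {P : Subgroup (GL (Fin 3) F)}

/-- A pair of homologies in general position. -/
theorem pair_plane (p : ℕ) [Fact p.Prime] [CharP F p] (hp : p ≠ 2) (hS : Setting P)
    (hT : NoTransvection P) {μ : F} (hn : 3 ≤ orderOf μ) {E E' : M3} (h : Hm P μ E) (h' : Hm P μ E')
    (hc0 : (E * E').trace ≠ 0) (hc1 : (E * E').trace ≠ 1) :
    orderOf μ ≤ 5 ∧ (orderOf μ = 5 → ∃ ζ : F, orderOf ζ = 10 ∧ Hm P ζ (axisPr E E')) ∧
    (orderOf μ = 4 → 4 * (1 - (E * E').trace) ^ 2 = 1 ∧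
      ∃ ζ : F, orderOf ζ = 4 ∧ Hm P ζ (axisPr E E')) ∧
    (orderOf μ = 3 → (3 * (E * E').trace = 1 ∧ Hm P (-1) (axisPr E E')) ∨
      ∃ ζ : F, orderOf ζ = 6 ∧ Hm P ζ (axisPr E E')) := by
  classical
  have h2 : (2 : F) ≠ 0 := Dickson.two_ne_zero_of_char p hp
  have hμ0 := h.ne_zero
  have hμ2 : μ ^ 2 ≠ 1 := fun e => by
    have := Nat.le_of_dvd two_pos (orderOf_dvd_of_pow_eq_one e); omega
  have hμp : μ + 1 ≠ 0 := fun e => hμ2 (by linear_combination (μ - 1) * e)
  have hμm : μ - 1 ≠ 0 := fun e => hμ2 (by linear_combination (μ + 1) * e)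
  obtain ⟨⟨hE, g, hg, hge⟩, hE', g', hg', hge'⟩ := And.intro h h'
  have hFpr : IsPr (axisPr E E') := isPr_compl hE hE' hc1
  obtain ⟨a, φ, ha, hEe⟩ := id hE
  obtain ⟨b, ψ, hb, hE'e⟩ := id hE'
  set u := φ ⬝ᵥ b with hu
  set v := ψ ⬝ᵥ a with hv
  set c := (E * E').trace with hc
  have hcuv : c = u * v := by
    rw [hc, hEe, hE'e, Matrix.vecMulVec_mul_vecMulVec, Matrix.trace_vecMulVec, dotProduct_smul,
      smul_eq_mul, dotProduct_comm a ψ]
  have h1c : 1 - u * v ≠ 0 := hcuv ▸ sub_ne_zero.mpr (Ne.symm hc1)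
  have h1c' : 1 - v * u ≠ 0 := by rwa [mul_comm]
  -- the plane
  let S : Matrix (Fin 3) (Fin 2) F := Matrix.of fun i j => if j = 0 then a i else b i
  let R : Matrix (Fin 2) (Fin 3) F := Matrix.of fun i j =>
    if i = 0 then (1 - u * v)⁻¹ * (φ j - u * ψ j) else (1 - u * v)⁻¹ * (ψ j - v * φ j)
  have hRS : R * S = 1 := by
    have ea : φ 0 * a 0 + φ 1 * a 1 + φ 2 * a 2 = 1 := by
      simpa [dotProduct, Fin.sum_univ_three] using ha
    have eb : ψ 0 * b 0 + ψ 1 * b 1 + ψ 2 * b 2 = 1 := by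
      simpa [dotProduct, Fin.sum_univ_three] using hb
    have eu : φ 0 * b 0 + φ 1 * b 1 + φ 2 * b 2 = u := by
      simp [hu, dotProduct, Fin.sum_univ_three]
    have ev : ψ 0 * a 0 + ψ 1 * a 1 + ψ 2 * a 2 = v := by
      simp [hv, dotProduct, Fin.sum_univ_three]
    ext i j
    fin_cases i <;> fin_cases j <;>
      simp [R, S, Matrix.mul_apply, Fin.sum_univ_three] <;> field_simp
    · linear_combination ea - u * ev
    · linear_combination eu - u * eb
    · linear_combination ev - v * ea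
    · linear_combination eb - v * eu
  have hSR : S * R = (1 - c)⁻¹ • (E + E' - E * E' - E' * E) := by
    rw [hcuv, hEe, hE'e, Matrix.vecMulVec_mul_vecMulVec, Matrix.vecMulVec_mul_vecMulVec, ← hu, ← hv]
    ext i j
    simp [S, R, Matrix.mul_apply, Fin.sum_univ_two, Matrix.vecMulVec_apply]
    ring
  have hRS' : ∀ X : Matrix (Fin 2) (Fin 3) F, R * (S * X) = X := fun X => by
    rw [← Matrix.mul_assoc, hRS, Matrix.one_mul]
  let J : M2 →* M3 :=
    { toFun := fun M => 1 + S * (M - 1) * R
      map_one' := by simp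
      map_mul' := fun M N => by
        have e : M * N - 1 = (M - 1) + (N - 1) + (M - 1) * (N - 1) := by noncomm_ring
        rw [e]
        simp only [Matrix.mul_add, Matrix.add_mul, Matrix.mul_one, Matrix.one_mul, Matrix.mul_assoc,
          hRS']
        abel }
  let D : Subgroup (GL (Fin 2) F) := (gam P).comap (Units.map J)
  have hu' : ∀ d ∈ D, (d : M2).trace = 2 → (d : M2).det = 1 → d = 1 := by
    intro d hd ht hdet
    have hN1 : ((d : M2) - 1).trace = 0 := by
      rw [Matrix.trace_sub, ht, Matrix.trace_one, Fintype.card_fin]; simp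
    have hN2 : ((d : M2) - 1).det = 0 := by
      rw [Matrix.trace_fin_two] at ht
      rw [Matrix.det_fin_two] at hdet
      simp [Matrix.det_fin_two]
      linear_combination hdet - ht
    obtain ⟨w, χ, hχ, hN⟩ := exists_rank_one_two hN1 hN2
    have e : S * ((d : M2) - 1) * R = vecMulVec (S *ᵥ w) (χ ᵥ* R) := by
      rw [hN, Matrix.mul_vecMulVec, Matrix.vecMulVec_mul]
    have hz := no_tv hS hT (g := Units.map J d) hd (u := S *ᵥ w) (ψ := χ ᵥ* R)
      (by rw [← Matrix.dotProduct_mulVec, Matrix.mulVec_mulVec, hRS, Matrix.one_mulVec, hχ])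
      (by rw [← e]; rfl)
    refine Units.ext (sub_eq_zero.mp ?_)
    rw [← e] at hz
    have := congrArg (fun X : M3 => R * X * S) hz
    simpa only [Matrix.mul_assoc, hRS, Matrix.mul_one, ← Matrix.mul_assoc R S, Matrix.one_mul,
      Matrix.mul_zero, Matrix.zero_mul, Units.val_one] using this
  let eA : M2 := !![1, u; 0, 0]
  let eB : M2 := !![0, 0; v, 1]
  have hA2 : eA * eA = eA := by
    ext i j; fin_cases i <;> fin_cases j <;> simp [eA, Matrix.mul_apply, Fin.sum_univ_two]
  have hB2 : eB * eB = eB := by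
    ext i j; fin_cases i <;> fin_cases j <;> simp [eB, Matrix.mul_apply, Fin.sum_univ_two]
  have hdA : (1 + (μ - 1) • eA).det = μ := by simp [eA, Matrix.det_fin_two]
  have hdB : (1 + (μ - 1) • eB).det = μ := by simp [eB, Matrix.det_fin_two]
  let A := Matrix.GeneralLinearGroup.mkOfDetNeZero _ (hdA.trans_ne hμ0)
  let B := Matrix.GeneralLinearGroup.mkOfDetNeZero _ (hdB.trans_ne hμ0)
  have hAv : (A : M2) = 1 + (μ - 1) • eA := rfl
  have hBv : (B : M2) = 1 + (μ - 1) • eB := rfl
  have hJA : J (1 + (μ - 1) • eA) = hm μ E := by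
    show 1 + S * (1 + (μ - 1) • eA - 1) * R = _
    rw [add_sub_cancel_left, hm, hEe, Matrix.mul_smul, Matrix.smul_mul]
    congr 2
    ext i j
    simp [S, R, eA, Matrix.mul_apply, Fin.sum_univ_two, Matrix.vecMulVec_apply]
    field_simp
    ring
  have hJB : J (1 + (μ - 1) • eB) = hm μ E' := by
    show 1 + S * (1 + (μ - 1) • eB - 1) * R = _
    rw [add_sub_cancel_left, hm, hE'e, Matrix.mul_smul, Matrix.smul_mul]
    congr 2
    ext i j
    simp [S, R, eB, Matrix.mul_apply, Fin.sum_univ_two, Matrix.vecMulVec_apply]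
    field_simp
    ring
  have hAD : A ∈ D := by
    show Units.map J A ∈ gam P
    rwa [show Units.map J A = g from Units.ext (by rw [hge, ← hJA]; rfl)]
  have hBD : B ∈ D := by
    show Units.map J B ∈ gam P
    rwa [show Units.map J B = g' from Units.ext (by rw [hge', ← hJB]; rfl)]
  have hK : ((A * B * A⁻¹ * B⁻¹ : GL (Fin 2) F) : M2).trace ≠ 2 := by
    have hAi : ((A⁻¹ : GL (Fin 2) F) : M2) = 1 + (μ⁻¹ - 1) • eA := by
      apply Units.inv_eq_of_mul_eq_one_right
      rw [hAv]
      simp only [add_mul, mul_add, one_mul, mul_one, smul_mul_assoc, mul_smul_comm, hA2]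
      match_scalars <;> field_simp <;> ring
    have hBi : ((B⁻¹ : GL (Fin 2) F) : M2) = 1 + (μ⁻¹ - 1) • eB := by
      apply Units.inv_eq_of_mul_eq_one_right
      rw [hBv]
      simp only [add_mul, mul_add, one_mul, mul_one, smul_mul_assoc, mul_smul_comm, hB2]
      match_scalars <;> field_simp <;> ring
    have key : ((A * B * A⁻¹ * B⁻¹ : GL (Fin 2) F) : M2).trace - 2 =
        (μ - 1) ^ 4 * (u * v) * (u * v - 1) / μ ^ 2 := by
      rw [Units.val_mul, Units.val_mul, Units.val_mul, hAi, hBi, hAv, hBv]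
      simp [eA, eB, Matrix.trace_fin_two, Matrix.mul_apply, Fin.sum_univ_two]
      field_simp
      ring
    intro e
    rw [e, sub_self, eq_comm, div_eq_zero_iff] at key
    rcases key with key | key
    · rcases mul_eq_zero.mp key with key | key
      · rcases mul_eq_zero.mp key with key | key
        · exact hμm (eq_zero_of_pow_eq_zero key)
        · exact hc0 (hcuv ▸ key)
      · exact h1c (by linear_combination -key)
    · exact hμ0 (eq_zero_of_pow_eq_zero key)
  have hAn : A ^ orderOf μ = 1 := Units.ext (by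
    rw [Units.val_pow_eq_pow_val, hAv, one_add_idem_pow hA2, pow_orderOf_eq_one, sub_self, zero_smul,
      add_zero, Units.val_one])
  have hBn : B ^ orderOf μ = 1 := Units.ext (by
    rw [Units.val_pow_eq_pow_val, hBv, one_add_idem_pow hB2, pow_orderOf_eq_one, sub_self, zero_smul,
      add_zero, Units.val_one])
  have hAs : ∀ (k : ℕ) (e : F), ((A ^ k : GL (Fin 2) F) : M2) = e • 1 → μ ^ k = 1 := by
    intro k e he
    rw [Units.val_pow_eq_pow_val, hAv, one_add_idem_pow hA2] at he
    have h00 := congrFun (congrFun he 0) 0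
    have h11 := congrFun (congrFun he 1) 1
    simp [eA] at h00 h11
    linear_combination h00 - h11
  have hBs : ∀ (k : ℕ) (e : F), ((B ^ k : GL (Fin 2) F) : M2) = e • 1 → μ ^ k = 1 := by
    intro k e he
    rw [Units.val_pow_eq_pow_val, hBv, one_add_idem_pow hB2] at he
    have h00 := congrFun (congrFun he 0) 0
    have h11 := congrFun (congrFun he 1) 1
    simp [eB] at h00 h11
    linear_combination h11 - h00
  have htA : (A : M2).trace ≠ 0 := by
    rw [hAv]; simp [eA, Matrix.trace_fin_two]; intro e; exact hμp (by linear_combination e)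
  obtain ⟨c1, c5, c4, c3⟩ := plane_cases p hp D hu' hAD hBD hn (by rw [hAv, hdA]) (by rw [hBv, hdB])
    htA hAn hBn hAs hBs hK
  have htr : ((A : M2) * B).trace = 2 * μ + (μ - 1) ^ 2 * c := by
    rw [hcuv, hAv, hBv]
    simp [eA, eB, Matrix.trace_fin_two, Matrix.mul_apply, Fin.sum_univ_two]
    ring
  have hdet : ((A : M2) * B).det = μ ^ 2 := by
    rw [Matrix.det_mul, hAv, hBv, hdA, hdB, sq]
  have scalar : ∀ z ∈ D, ∀ ζ : F, ((z : GL (Fin 2) F) : M2) = ζ • 1 → Hm P ζ⁻¹ (axisPr E E') := by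
    intro z hz ζ hζ
    have hζ0 : ζ ≠ 0 := by rintro rfl; exact z.ne_zero (by rw [hζ, zero_smul])
    obtain ⟨k, hk, hke⟩ := exists_smul_mem (show Units.map J z ∈ gam P from hz) (inv_ne_zero hζ0)
    refine ⟨hFpr, k, hk, ?_⟩
    rw [hke, show ((Units.map J z : GL (Fin 3) F) : M3) = 1 + S * ((z : M2) - 1) * R from rfl, hζ,
      show (ζ • (1 : M2) - 1) = (ζ - 1) • 1 by rw [sub_smul, one_smul], Matrix.mul_smul, Matrix.mul_one,
      Matrix.smul_mul, hSR, hm, axisPr, ← hc]
    match_scalars <;> field_simp <;> ring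
  have cube : ((A : M2) * B).trace ^ 2 = ((A : M2) * B).det →
      Hm P (-(((A : M2) * B).trace * μ ^ 2))⁻¹ (axisPr E E') := fun e => by
    refine scalar ((A * B) * ((A * B) * (A * B))) (D.mul_mem (D.mul_mem hAD hBD)
      (D.mul_mem (D.mul_mem hAD hBD) (D.mul_mem hAD hBD))) _ ?_
    simp only [Units.val_mul]
    rw [cube_eq_of_trace e, hdet]
  refine ⟨c1, fun e => ?_, fun e => ?_, fun e => ?_⟩
  · obtain ⟨z, hz, ζ, hζ, hze⟩ := c5 e
    exact ⟨ζ⁻¹, by rw [orderOf_inv_field, hζ], scalar z hz ζ hze⟩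
  · have hμ4 : μ ^ 4 = 1 := e ▸ pow_orderOf_eq_one μ
    have hμi : μ ^ 2 = -1 := (sq_eq_one_iff.mp (show (μ ^ 2) ^ 2 = 1 by linear_combination hμ4)).resolve_left hμ2
    have e4 := c4 e
    refine ⟨?_, (-(((A : M2) * B).trace * μ ^ 2))⁻¹, ?_, cube e4⟩
    · rw [htr, hdet] at e4
      refine mul_left_cancel₀ (pow_ne_zero 2 hμ0) ?_
      linear_combination e4 - (4 * μ * (c - c ^ 2) + c ^ 2 * (μ ^ 2 + 1) + 0) * hμi
    · rw [orderOf_inv_field]
      have hsq : (-(((A : M2) * B).trace * μ ^ 2)) ^ 2 = -1 := by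
        rw [hdet] at e4
        linear_combination μ ^ 4 * e4 + μ ^ 2 * hμ4 + hμi
      refine orderOf_eq_prime_pow (p := 2) (n := 1) ?_ ?_
      · simp only [pow_one]
        rw [hsq]; exact fun h => h2 (by linear_combination -h)
      · rw [show (2 : ℕ) ^ (1 + 1) = 2 * 2 by norm_num, pow_mul, hsq]
        norm_num
  · have hμ3 : μ ^ 3 = 1 := e ▸ pow_orderOf_eq_one μ
    have hω : μ ^ 2 + μ + 1 = 0 := by
      refine (mul_eq_zero.mp (show (μ - 1) * (μ ^ 2 + μ + 1) = 0 by linear_combination hμ3)).resolve_left hμm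
    rcases c3 e with e3 | ⟨z, hz, ζ, hζ, hze⟩
    · left
      have hcube := cube e3
      rw [htr, hdet] at e3
      have ht : 2 * μ + (μ - 1) ^ 2 * c = μ := by
        have he : (μ - 1) ^ 2 = -3 * μ := by linear_combination hω
        rw [he] at e3 ⊢
        rcases eq_or_eq_neg_of_sq_eq_sq _ _ e3 with e' | e'
        · exact e'
        · exfalso
          have : 3 * μ * (1 - c) = 0 := by linear_combination e'
          rcases mul_eq_zero.mp this with e'' | e''
          · refine hμm (eq_zero_of_pow_eq_zero (n := 2) ?_)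
            rw [he]; linear_combination -e''
          · exact hc1 (by linear_combination -e'')
      refine ⟨?_, ?_⟩
      · refine mul_left_cancel₀ hμ0 ?_
        linear_combination -ht + c * hω
      · rw [htr, ht, show (-(μ * μ ^ 2))⁻¹ = (-1 : F) by
          rw [show μ * μ ^ 2 = 1 by linear_combination hμ3, inv_neg, inv_one]] at hcube
        exact hcube
    · exact Or.inr ⟨ζ⁻¹, by rw [orderOf_inv_field, hζ], scalar z hz ζ hze⟩

end Cfsg.Agent.Linear.Mitchell.Homology
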