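import Cfsg.Agent.Linear.Mitchell.NoTv
import Cfsg.Agent.Linear.Mitchell.Cases.Octahedral
import Cfsg.Agent.Linear.Mitchell.Orders.Klein
import Cfsg.Agent.Linear.Mitchell.Orders.GLTwoThree
import Cfsg.Agent.Linear.Mitchell.Tv.Main

/-!
Mitchell's theorem on the quasi-simple absolutely irreducible subgroups of `SL₃(F)`.
-/

set_option autoImplicit false

namespace Cfsg.Agent.Linear.Mitchell

open scoped MatrixGroups Matrix
open Cfsg.Geo Matrix

variable {F : Type*} [Field F] [Fintype F]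

/-- Mitchell's theorem. -/
theorem mitchell (p : ℕ) [Fact p.Prime] [CharP F p] {P : Subgroup (GL (Fin 3) F)} (hS : Setting P) :
    Outcome p P := by
  classical
  by_cases hT : NoTransvection P
  · obtain ⟨hp, hc⟩ := cases_noTransvection p hS hT
    rcases hc with hq | h | h | ⟨g, hI, hodd, hc⟩
    · exact Or.inr (Or.inr (Or.inl ⟨hp, hq⟩))
    · exact Or.inr (Or.inr (Or.inr (Or.inl h)))
    · exact Or.inr (Or.inr (Or.inr (Or.inr (Or.inl h))))
    rcases hc with ⟨h, h24⟩ | hoct
    · rcases h with h | h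
      · exact Or.inr (Or.inr (Or.inr (Or.inr (Or.inr
          ⟨h, hI.eq_five_of_card_2520 h24 (by rw [projCard_conjP]; exact h)⟩))))
      · exact absurd (by rw [projCard_conjP]; exact h) hI.projCard_ne_3672
    · exfalso
      exact hI.false_of_centralizer_gl (hI.iso_of_isOctahedral hodd hoct)
  · obtain ⟨a, φ, ha, hin, hφ⟩ : ∃ a φ : Fin 3 → F, a ≠ 0 ∧ H95.InTv P a φ ∧ φ ≠ 0 := by
      simp only [NoTransvection, not_forall] at hT
      obtain ⟨a, φ, ha, hin, hφ⟩ := hT
      exact ⟨a, φ, ha, hin, hφ⟩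
    rcases Tv.of_transvection p hS ha hφ hin with h | h | h | h
    exacts [Or.inl h, Or.inr (Or.inl h), Or.inr (Or.inr (Or.inr (Or.inl h))),
      Or.inr (Or.inr (Or.inr (Or.inr (Or.inl h))))]

end Cfsg.Agent.Linear.Mitchell
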