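import Cfsg.Agent.Linear.Mitchell.Cases.Reduce
import Cfsg.Agent.Linear.Mitchell.PSLTwo.Main
import Cfsg.Agent.Linear.Mitchell.Homology
import Cfsg.Agent.Linear.Mitchell.CharTwo

/-!
Subgroups without transvections: a quadratic form, order 168 or 360, or one of the two exceptional
centralisers.
-/

set_option autoImplicit false

namespace Cfsg.Agent.Linear.Mitchell

open scoped MatrixGroups Matrix
open Cfsg.Geo Matrix

variable {F : Type*} [Field F] [Finite F] {P : Subgroup (GL (Fin 3) F)}

/-- The cases without transvection. -/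
theorem cases_noTransvection (p : ℕ) [Fact p.Prime] [CharP F p] (hS : Setting P) (hT : NoTransvection P) :
    p ≠ 2 ∧ ((∃ Q : (Fin 3 → F) → F, IsNondegenerateQuadraticForm Q ∧ FixesQuadForm (matrixSet P) Q) ∨
      projCard P = 168 ∨ projCard P = 360 ∨
      ∃ (g : GL (Fin 3) F) (hI : InvSetting p (conjP g P)),
        ¬ 2 ∣ (Subgroup.centralizer ({hI.tX} : Set (PX (conjP g P)))).index ∧
        (((projCard P = 2520 ∨ projCard P = 3672) ∧
          Nat.card (Subgroup.centralizer ({hI.tX} : Set (PX (conjP g P)))) = 24) ∨ hI.IsOctahedral)) := by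
  have hp : p ≠ 2 := by
    rintro rfl
    exact not_noTransvection_two hS hT
  have hH := fun lam (h : HasHomology P lam) => sq_eq_one_of_hasHomology p hp hS hT h
  refine ⟨hp, ?_⟩
  rcases reduce hp hS hT hH with ⟨K, iK, iK', hK, ⟨e⟩⟩ | h | h | h
  · rcases PSLTwo.outcome hp hS hH hK e with h | h | h
    exacts [Or.inl h, Or.inr (Or.inl h), Or.inr (Or.inr (Or.inl h))]
  · exact Or.inr (Or.inl h)
  · exact Or.inr (Or.inr (Or.inl h))
  · exact Or.inr (Or.inr (Or.inr h))

end Cfsg.Agent.Linear.Mitchell
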