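import Cfsg.Agent.Linear.Mitchell.Basic
import Cfsg.Agent.S0205
import Cfsg.Agent.S1307

/-!
The simple group `P` modulo scalars.
-/

set_option autoImplicit false

namespace Cfsg.Agent.Linear.Mitchell

open scoped MatrixGroups Matrix
open Cfsg.Geo

variable {F : Type*} [Field F] {P : Subgroup (GL (Fin 3) F)}

local notation "M3" => Matrix (Fin 3) (Fin 3) F

/-- `P` modulo scalars. -/
abbrev PX (P : Subgroup (GL (Fin 3) F)) := P ⧸ (scalars (Fin 3) F).subgroupOf P

/-- The projection to `P` modulo scalars. -/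
def px (P : Subgroup (GL (Fin 3) F)) : P →* PX P := QuotientGroup.mk' _

theorem px_surjective : Function.Surjective (px P) := QuotientGroup.mk'_surjective _

theorem px_eq_one {x : P} : px P x = 1 ↔ ∃ c : F, ((x : GL (Fin 3) F) : M3) = c • 1 := by
  rw [px, QuotientGroup.mk'_apply, QuotientGroup.eq_one_iff, Subgroup.mem_subgroupOf, mem_scalars_iff]
  refine ⟨fun ⟨c, hc⟩ => ⟨c, hc⟩, fun ⟨c, hc⟩ => ⟨Units.mk0 c fun h => ?_, hc⟩⟩
  have := Matrix.GeneralLinearGroup.det_ne_zero (x : GL (Fin 3) F)
  simp [hc, h] at this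

theorem px_eq_iff {x y : P} :
    px P x = px P y ↔ ∃ c : F, ((y : GL (Fin 3) F) : M3) = c • ((x : GL (Fin 3) F) : M3) := by
  rw [← inv_mul_eq_one, ← map_inv, ← map_mul, px_eq_one]
  constructor
  · rintro ⟨c, hc⟩
    refine ⟨c, ?_⟩
    rw [Subgroup.coe_mul, Subgroup.coe_inv, Units.val_mul] at hc
    have := congrArg (((x : GL (Fin 3) F) : M3) * ·) hc
    simpa [← mul_assoc] using this
  · rintro ⟨c, hc⟩
    exact ⟨c, by simp [hc]⟩

namespace Setting

variable (hS : Setting P)
include hS

theorem isPerfect : Group.IsPerfect (PX P) := by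
  haveI : Group.IsPerfect P := by
    constructor
    refine Subgroup.map_injective P.subtype_injective ?_
    rw [commutator, Subgroup.map_commutator, ← MonoidHom.range_eq_map, Subgroup.range_subtype, hS.perfect]
  refine ⟨?_⟩
  have h := congrArg (Subgroup.map (px P)) (Group.IsPerfect.commutator_eq_top (G := P))
  rw [commutator, Subgroup.map_commutator, Subgroup.map_top_of_surjective _ px_surjective] at h
  exact h

theorem not_comm : ¬ ∀ a b : PX P, a * b = b * a := by
  intro h
  haveI := hS.simple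
  haveI := hS.isPerfect
  have : commutator (PX P) = ⊥ := by
    rw [commutator, eq_bot_iff, Subgroup.commutator_le]
    intro a _ b _
    rw [Subgroup.mem_bot, commutatorElement_eq_one_iff_mul_comm]
    exact h a b
  rw [Group.IsPerfect.commutator_eq_top] at this
  exact top_ne_bot this

theorem not_isCyclic : ¬ IsCyclic (PX P) := fun h => hS.not_comm fun a b => by
  letI := h.commGroup
  exact mul_comm a b

theorem even_card [Finite F] : Even (Nat.card (PX P)) := by
  haveI := hS.simple
  rw [← Nat.not_odd_iff_even]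
  intro hodd
  haveI := Cfsg.Agent.S0205.result hodd
  exact hS.not_comm fun a b => IsSimpleGroup.comm_iff_isSolvable.mpr inferInstance a b

theorem sylow_two_not_cyclic [Finite F] (S : Sylow 2 (PX P)) : ¬ IsCyclic (S : Subgroup (PX P)) :=
  Cfsg.Agent.S1307.not_isCyclic_of_perfect hS.isPerfect S hS.even_card

theorem normal_odd_eq_bot [Finite F] (N : Subgroup (PX P)) (hN : N.Normal) (hodd : Odd (Nat.card N)) :
    N = ⊥ := by
  haveI := hS.simple
  refine hN.eq_bot_or_eq_top.resolve_right fun h => ?_
  rw [h, Subgroup.card_top] at hodd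
  exact Nat.not_odd_iff_even.mpr hS.even_card hodd

/-- Some involution is central in a Sylow 2-subgroup. -/
theorem exists_central_involution [Finite F] :
    ∃ (S : Sylow 2 (PX P)) (t : PX P), orderOf t = 2 ∧ t ∈ (S : Subgroup (PX P)) ∧
      ∀ s ∈ (S : Subgroup (PX P)), s * t = t * s := by
  haveI : Fact (Nat.Prime 2) := ⟨Nat.prime_two⟩
  let S : Sylow 2 (PX P) := default
  haveI : Nontrivial (S : Subgroup (PX P)) :=
    (Subgroup.nontrivial_iff_ne_bot _).mpr (S.ne_bot_of_dvd_card (even_iff_two_dvd.mp hS.even_card))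
  haveI := S.isPGroup'.center_nontrivial
  obtain ⟨n, hn, he⟩ := (S.isPGroup'.to_subgroup (Subgroup.center (S : Subgroup (PX P)))).nontrivial_iff_card.mp
    inferInstance
  obtain ⟨z, hz⟩ := exists_prime_orderOf_dvd_card' (G := Subgroup.center (S : Subgroup (PX P))) 2
    (he ▸ dvd_pow_self 2 hn.ne')
  refine ⟨S, ((z : (S : Subgroup (PX P))) : PX P), ?_, z.1.2, fun s hs => ?_⟩
  · rw [Subgroup.orderOf_coe, Subgroup.orderOf_coe]
    convert hz using 2
  exact congrArg Subtype.val (Subgroup.mem_center_iff.mp z.2 ⟨s, hs⟩)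

end Setting

end Cfsg.Agent.Linear.Mitchell
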